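import Mathlib
import Cfsg.Agent.S0781

/-! Hermitian form toolkit and Siegel elements for `SU_n(q)`. -/

set_option autoImplicit false

namespace Cfsg.Agent.Helper2.SUGen

open Matrix Cfsg.Agent.Helper28 Cfsg.Agent.S2644

/-- the Frobenius involution data of a field with `q^2` elements -/
structure Frob (K : Type*) [Field K] (q : ℕ) where
  σ : K →+* K
  pow : ∀ x, σ x = x ^ q
  invol : ∀ x, σ (σ x) = x
  ne_id : σ ≠ RingHom.id K

variable {K : Type*} [Field K] {q n : ℕ}

local notation "h" => Cfsg.hermForm n K q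
local notation "T" => Cfsg.unitaryTransvection n q

theorem h_add_left (x x' y : Fin n → K) : h (x + x') y = h x y + h x' y := hermForm_add_left x x' y

theorem h_smul_left (c : K) (x y : Fin n → K) : h (c • x) y = c * h x y := hermForm_smul_left c x y

theorem h_zero_left (y : Fin n → K) : h 0 y = 0 := hermForm_zero_left y

theorem h_neg_left (x y : Fin n → K) : h (-x) y = - h x y := by
  have := h_smul_left (q := q) (-1 : K) x y
  simpa using this

theorem h_sub_left (x x' y : Fin n → K) : h (x - x') y = h x y - h x' y := by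
  rw [sub_eq_add_neg, h_add_left, h_neg_left, ← sub_eq_add_neg]

/-! ### determinant of a rank two update -/

theorem det_one_add_two (a1 b1 a2 b2 : Fin n → K) :
    (1 + vecMulVec a1 b1 + vecMulVec a2 b2 : Matrix (Fin n) (Fin n) K).det
      = (1 + b1 ⬝ᵥ a1) * (1 + b2 ⬝ᵥ a2) - (b1 ⬝ᵥ a2) * (b2 ⬝ᵥ a1) := by
  set U : Matrix (Fin n) (Fin 2) K :=
    Matrix.of (fun k (j : Fin 2) => if j = 0 then a1 k else a2 k) with hU
  set V : Matrix (Fin 2) (Fin n) K :=
    Matrix.of (fun (i : Fin 2) k => if i = 0 then b1 k else b2 k) with hV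
  have h1 : (1 + vecMulVec a1 b1 + vecMulVec a2 b2 : Matrix (Fin n) (Fin n) K) = 1 + U * V := by
    rw [add_assoc]
    congr 1
    ext k l
    simp [hU, hV, Matrix.mul_apply, Fin.sum_univ_two, Matrix.vecMulVec_apply]
  have h2 : (1 + V * U) = !![1 + b1 ⬝ᵥ a1, b1 ⬝ᵥ a2; b2 ⬝ᵥ a1, 1 + b2 ⬝ᵥ a2] := by
    ext i j
    fin_cases i <;> fin_cases j <;>
      simp [hU, hV, Matrix.mul_apply, dotProduct]
  rw [h1, Matrix.det_one_add_mul_comm, h2, Matrix.det_fin_two_of]

/-! ### Siegel elements -/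

/-- the conjugate vector -/
def cj (x : Fin n → K) : Fin n → K := fun j => x j ^ q

theorem cj_dot (x z : Fin n → K) : cj (q := q) x ⬝ᵥ z = h z x := by
  simp only [cj, dotProduct, Cfsg.hermForm]
  apply Finset.sum_congr rfl
  intro i _
  ring

theorem vmv_mulVec (a b z : Fin n → K) : vecMulVec a (cj (q := q) b) *ᵥ z = h z b • a := by
  rw [Matrix.vecMulVec_mulVec, cj_dot]
  ext i
  simp [mul_comm]

/-- the Siegel element `z ↦ z + h(z,x) w - h(z,w) x + c h(z,x) x` -/
def Sg (x w : Fin n → K) (c : K) : Matrix (Fin n) (Fin n) K :=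
  1 + vecMulVec w (cj (q := q) x) + vecMulVec x (-(cj (q := q) w) + c • cj (q := q) x)

theorem Sg_mulVec (x w : Fin n → K) (c : K) (z : Fin n → K) :
    Sg (q := q) x w c *ᵥ z = z + h z x • w - h z w • x + (c * h z x) • x := by
  unfold Sg
  rw [Matrix.add_mulVec, Matrix.add_mulVec, Matrix.one_mulVec, vmv_mulVec, Matrix.vecMulVec_mulVec,
    add_dotProduct, neg_dotProduct, smul_dotProduct, cj_dot, cj_dot]
  ext i
  simp only [Pi.add_apply, Pi.smul_apply, Pi.sub_apply, MulOpposite.smul_eq_mul_unop,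
    MulOpposite.unop_op, smul_eq_mul]
  ring

theorem T_mulVec (v : Fin n → K) (c : K) (z : Fin n → K) :
    T v c *ᵥ z = z + (c * h z v) • v := unitaryTransvection_mulVec v c z

variable (D : Frob K q)

include D

theorem h_add_right (x y y' : Fin n → K) : h x (y + y') = h x y + h x y' :=
  hermForm_add_right D.σ D.pow x y y'

theorem h_smul_right (c : K) (x y : Fin n → K) : h x (c • y) = D.σ c * h x y := by
  rw [hermForm_smul_right, D.pow]

theorem h_zero_right (x : Fin n → K) : h x 0 = 0 := by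
  have := h_smul_right D (0 : K) x 0
  simpa using this

theorem h_neg_right (x y : Fin n → K) : h x (-y) = - h x y := by
  have := h_smul_right D (-1 : K) x y
  simpa using this

theorem h_sub_right (x y y' : Fin n → K) : h x (y - y') = h x y - h x y' := by
  rw [sub_eq_add_neg, h_add_right D, h_neg_right D, ← sub_eq_add_neg]

theorem h_conj (x y : Fin n → K) : D.σ (h y x) = h x y := by
  rw [D.pow]; exact hermForm_conj D.σ D.pow D.invol x y

theorem h_self_fix (x : Fin n → K) : D.σ (h x x) = h x x := h_conj D x x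

theorem h_symm_zero {x y : Fin n → K} (hxy : h x y = 0) : h y x = 0 := by
  rw [← h_conj D, hxy, map_zero]

theorem h_symm_ne {x y : Fin n → K} (hxy : h x y ≠ 0) : h y x ≠ 0 := fun h0 => hxy (h_symm_zero D h0)

theorem h_nondeg {v : Fin n → K} (hv : ∀ y, h v y = 0) : v = 0 := herm_nondeg D.σ D.pow v hv

theorem σ_injective : Function.Injective D.σ := D.σ.injective

theorem σ_ne_zero {a : K} (ha : a ≠ 0) : D.σ a ≠ 0 := by
  intro h0; apply ha; rw [← D.invol a, h0, map_zero]

/-! ### trace, norm, skew elements -/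

theorem exists_trace (δ : K) (hδ : D.σ δ = δ) : ∃ t : K, t + D.σ t = δ :=
  HW.exists_trace_eq D.ne_id D.invol δ hδ

theorem exists_norm [Finite K] (c : K) (hc : c ≠ 0) (hfix : D.σ c = c) : ∃ a : K, a * D.σ a = c :=
  exists_norm_eq D.σ D.ne_id D.invol c hc hfix

theorem exists_skew : ∃ s : K, s ≠ 0 ∧ D.σ s = -s := by
  obtain ⟨a, ha⟩ : ∃ a, D.σ a ≠ a := by
    by_contra hcon
    push Not at hcon
    exact D.ne_id (RingHom.ext hcon)
  refine ⟨a - D.σ a, sub_ne_zero.mpr (Ne.symm ha), ?_⟩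
  rw [map_sub, D.invol]; ring

theorem exists_trace_ne : ∃ t : K, t + D.σ t ≠ 0 := by
  obtain ⟨t, ht⟩ := exists_trace D 1 (map_one _)
  exact ⟨t, by rw [ht]; exact one_ne_zero⟩

/-- a norm-one element different from `1` -/
theorem exists_norm_one_ne : ∃ ζ : K, ζ ≠ 1 ∧ ζ * D.σ ζ = 1 := by
  obtain ⟨a, ha⟩ : ∃ a, D.σ a ≠ a := by
    by_contra hcon
    push Not at hcon
    exact D.ne_id (RingHom.ext hcon)
  have ha0 : a ≠ 0 := by rintro rfl; exact ha (map_zero _)
  have hs0 : D.σ a ≠ 0 := σ_ne_zero D ha0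
  refine ⟨D.σ a / a, ?_, ?_⟩
  · intro h1
    rw [div_eq_one_iff_eq ha0] at h1
    exact ha h1
  · rw [map_div₀, D.invol]
    field_simp

theorem Sg_zero (x : Fin n → K) (c : K) : Sg (q := q) x 0 c = T x c := by
  apply mat_ext
  intro z
  rw [Sg_mulVec, T_mulVec, h_zero_right D]
  module

theorem Sg_det (x w : Fin n → K) (c : K) (hxx : h x x = 0) (hwx : h w x = 0) :
    (Sg (q := q) x w c).det = 1 := by
  unfold Sg
  rw [det_one_add_two, cj_dot, cj_dot, add_dotProduct, neg_dotProduct, smul_dotProduct, cj_dot,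
    cj_dot, add_dotProduct, neg_dotProduct, smul_dotProduct, cj_dot, cj_dot, hxx, hwx,
    h_symm_zero D hwx]
  simp

theorem Sg_pres (x w : Fin n → K) (c : K) (hxx : h x x = 0) (hwx : h w x = 0)
    (hc : c + D.σ c + h w w = 0) : Pres (q := q) (Sg (q := q) x w c) := by
  intro z z'
  have hxw : h x w = 0 := h_symm_zero D hwx
  have e1 : D.σ (h z' x) = h x z' := h_conj D _ _
  have e2 : D.σ (h z' w) = h w z' := h_conj D _ _
  rw [Sg_mulVec, Sg_mulVec]
  simp only [h_add_left, h_sub_left, h_smul_left, h_add_right D, h_sub_right D, h_smul_right D,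
    map_mul, e1, e2, hxx, hwx, hxw]
  linear_combination (h z x * h x z') * hc

theorem Sg_mul (x w1 w2 : Fin n → K) (c1 c2 : K) (hxx : h x x = 0) (h1 : h w1 x = 0)
    (h2 : h w2 x = 0) :
    Sg (q := q) x w1 c1 * Sg (q := q) x w2 c2 = Sg (q := q) x (w1 + w2) (c1 + c2 - h w2 w1) := by
  apply mat_ext
  intro z
  have hx1 : h x w1 = 0 := h_symm_zero D h1
  rw [← Matrix.mulVec_mulVec, Sg_mulVec, Sg_mulVec, Sg_mulVec]
  simp only [h_add_left, h_sub_left, h_smul_left, h_add_right D, hxx, h2, hx1]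
  module

theorem Sg_conj (G : Matrix (Fin n) (Fin n) K) (hG : Pres (q := q) G) (x w : Fin n → K) (c : K) :
    G * Sg (q := q) x w c = Sg (q := q) (G *ᵥ x) (G *ᵥ w) c * G := by
  apply mat_ext
  intro z
  rw [← Matrix.mulVec_mulVec, ← Matrix.mulVec_mulVec, Sg_mulVec, Sg_mulVec, hG, hG]
  simp only [Matrix.mulVec_add, Matrix.mulVec_sub, Matrix.mulVec_smul]

theorem Sg_inv (x w : Fin n → K) (c : K) (hxx : h x x = 0) (hwx : h w x = 0)
    (hc : c + D.σ c + h w w = 0) :
    Sg (q := q) x w c * Sg (q := q) x (-w) (D.σ c) = 1 ∧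
      Sg (q := q) x (-w) (D.σ c) * Sg (q := q) x w c = 1 := by
  have hnx : h (-w) x = 0 := by rw [h_neg_left, hwx, neg_zero]
  have e : T x (0 : K) = 1 := Cfsg.Agent.S0781.T_zero_coeff x
  constructor
  · rw [Sg_mul D x w (-w) c (D.σ c) hxx hwx hnx, add_neg_cancel, h_neg_left,
      show c + D.σ c - -(h w w) = 0 by linear_combination hc, Sg_zero D, e]
  · rw [Sg_mul D x (-w) w (D.σ c) c hxx hnx hwx, neg_add_cancel, h_neg_right D,
      show D.σ c + c - -(h w w) = 0 by linear_combination hc, Sg_zero D, e]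

/-- the conjugate condition is symmetric -/
theorem cond_inv (w : Fin n → K) (c : K) (hc : c + D.σ c + h w w = 0) :
    D.σ c + D.σ (D.σ c) + h (-w) (-w) = 0 := by
  rw [D.invol, h_neg_left, h_neg_right D]
  linear_combination hc

/-- moving an isotropic vector to another one with the same product with `x` -/
theorem Sg_map (x y y' : Fin n → K) (hxx : h x x = 0) (hyy : h y y = 0) (hyy' : h y' y' = 0)
    (hk : h y x ≠ 0) (hyx : h y' x = h y x) :
    ∃ w c, (∃ a : K, w = a • (y' - y)) ∧ h w x = 0 ∧ c + D.σ c + h w w = 0 ∧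
      Sg (q := q) x w c *ᵥ y = y' := by
  set κ := h y x with hκ
  set w := κ⁻¹ • (y' - y) with hw
  set c := h y w / κ with hcdef
  have hwx : h w x = 0 := by
    rw [hw, h_smul_left, h_sub_left, hyx, sub_self, mul_zero]
  have hκσ : D.σ κ ≠ 0 := σ_ne_zero D hk
  have hyw : h y w = D.σ κ⁻¹ * h y y' := by
    rw [hw, h_smul_right D, h_sub_right D, hyy, sub_zero]
  have hwy : h w y = κ⁻¹ * h y' y := by
    rw [hw, h_smul_left, h_sub_left, hyy, sub_zero]
  have hww : h w w = - (κ⁻¹ * D.σ κ⁻¹) * (h y y' + h y' y) := by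
    rw [hw, h_smul_left, h_smul_right D, h_sub_left, h_sub_right D, h_sub_right D, hyy, hyy']
    ring
  have hσc : D.σ c = h y' y * κ⁻¹ / D.σ κ := by
    rw [hcdef, map_div₀, hyw, map_mul, D.invol, h_conj D]
    ring
  refine ⟨w, c, ⟨κ⁻¹, rfl⟩, hwx, ?_, ?_⟩
  · rw [hσc, hcdef, hyw, hww, map_inv₀]
    field_simp
    ring
  · rw [Sg_mulVec, ← hκ]
    have : c * κ = h y w := by rw [hcdef]; field_simp
    rw [this, hw]
    have h1 : κ • κ⁻¹ • (y' - y) = y' - y := by rw [smul_smul, mul_inv_cancel₀ hk, one_smul]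
    rw [h1]
    module

end Cfsg.Agent.Helper2.SUGen
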