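import Mathlib
import Cfsg.Agent.Helper2.SU.Basic

/-! Isotropic vectors in non-degenerate subspaces of the standard Hermitian space. -/

set_option autoImplicit false

namespace Cfsg.Agent.Helper2.SUGen

open Matrix Module

variable {K : Type*} [Field K] {q n : ℕ}

local notation "h" => Cfsg.hermForm n K q

/-- the (left) orthogonal complement -/
def perpL (q : ℕ) (X : Submodule K (Fin n → K)) : Submodule K (Fin n → K) where
  carrier := {y | ∀ x ∈ X, Cfsg.hermForm n K q y x = 0}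
  add_mem' := by
    intro a b ha hb x hx
    rw [h_add_left, ha x hx, hb x hx, add_zero]
  zero_mem' := by
    intro x _
    exact h_zero_left x
  smul_mem' := by
    intro c a ha x hx
    rw [h_smul_left, ha x hx, mul_zero]

theorem mem_perpL {X : Submodule K (Fin n → K)} {y : Fin n → K} :
    y ∈ perpL q X ↔ ∀ x ∈ X, h y x = 0 := Iff.rfl

theorem perpL_anti {X X' : Submodule K (Fin n → K)} (hXX : X ≤ X') : perpL q X' ≤ perpL q X :=
  fun _ hy x hx => hy x (hXX hx)

/-- non-degenerate subspace -/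
def NonDeg (q : ℕ) (Y : Submodule K (Fin n → K)) : Prop :=
  ∀ y ∈ Y, (∀ y' ∈ Y, Cfsg.hermForm n K q y y' = 0) → y = 0

theorem exists_not_smul {Y : Submodule K (Fin n → K)} (hY : 2 ≤ finrank K Y) (a : Fin n → K) :
    ∃ y ∈ Y, ∀ c : K, y ≠ c • a := by
  by_contra hcon
  push Not at hcon
  have hle : Y ≤ Submodule.span K {a} := by
    intro y hy
    obtain ⟨c, hc⟩ := hcon y hy
    rw [hc]
    exact Submodule.smul_mem _ _ (Submodule.subset_span rfl)
  have h1 := Submodule.finrank_mono hle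
  have h2 : finrank K (Submodule.span K ({a} : Set (Fin n → K))) ≤ 1 := by
    have := finrank_span_finset_le_card (R := K) ({a} : Finset (Fin n → K))
    rw [Finset.coe_singleton, Finset.card_singleton] at this
    exact this
  omega

theorem exists_not_pair {Y : Submodule K (Fin n → K)} (hY : 3 ≤ finrank K Y) (a b : Fin n → K) :
    ∃ y ∈ Y, ∀ c d : K, y ≠ c • a + d • b := by
  classical
  by_contra hcon
  push Not at hcon
  have hle : Y ≤ Submodule.span K {a, b} := by
    intro y hy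
    obtain ⟨c, d, hc⟩ := hcon y hy
    rw [hc]
    exact Submodule.add_mem _ (Submodule.smul_mem _ _ (Submodule.subset_span (by simp)))
      (Submodule.smul_mem _ _ (Submodule.subset_span (by simp)))
  have h1 := Submodule.finrank_mono hle
  have h2 : finrank K (Submodule.span K ({a, b} : Set (Fin n → K))) ≤ 2 := by
    have := finrank_span_finset_le_card (R := K) ({a, b} : Finset (Fin n → K))
    have h3 : ({a, b} : Finset (Fin n → K)).card ≤ 2 := Finset.card_le_two
    rw [Finset.coe_insert, Finset.coe_singleton] at this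
    exact le_trans this h3
  omega

variable (D : Frob K q)

include D

theorem h_self_add_smul (z y0 : Fin n → K) (l : K) :
    h (z + l • y0) (z + l • y0)
      = h z z + D.σ l * h z y0 + l * h y0 z + l * D.σ l * h y0 y0 := by
  simp only [h_add_left, h_smul_left, h_add_right D, h_smul_right D]
  ring

/-- an isotropic partner for a nonzero isotropic vector -/
theorem exists_iso_of_iso {Y : Submodule K (Fin n → K)} (hY : NonDeg q Y) {y0 : Fin n → K}
    (hy0 : y0 ∈ Y) (hne : y0 ≠ 0) (hiso : h y0 y0 = 0) :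
    ∃ x ∈ Y, h x x = 0 ∧ h y0 x ≠ 0 := by
  obtain ⟨z, hz, hβ⟩ : ∃ z ∈ Y, h y0 z ≠ 0 := by
    by_contra hcon
    push Not at hcon
    exact hne (hY y0 hy0 hcon)
  set β := h y0 z with hβdef
  have hzy : h z y0 = D.σ β := (h_conj D z y0).symm
  obtain ⟨t, ht⟩ := exists_trace D (-(h z z)) (by rw [map_neg, h_self_fix D])
  refine ⟨z + (t / β) • y0, Y.add_mem hz (Y.smul_mem _ hy0), ?_, ?_⟩
  · rw [h_self_add_smul D, hiso, hzy, ← hβdef, ← map_mul, div_mul_cancel₀ t hβ, mul_zero, add_zero]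
    linear_combination ht
  · rw [h_add_right D, h_smul_right D, hiso, mul_zero, add_zero]
    exact hβ

/-- an anisotropic vector orthogonal to an anisotropic vector -/
theorem exists_aniso_perp {Z : Submodule K (Fin n → K)} (hZ : NonDeg q Z) {y0 : Fin n → K}
    (hy0 : y0 ∈ Z) (hN : h y0 y0 ≠ 0) {z' : Fin n → K} (hz' : z' ∈ Z) (hz'n : ∀ a : K, z' ≠ a • y0) :
    ∃ z ∈ Z, h z y0 = 0 ∧ h z z ≠ 0 := by
  set N0 := h y0 y0 with hN0
  have hP : ∀ z ∈ Z, (z - (h z y0 / N0) • y0) ∈ Z ∧ h (z - (h z y0 / N0) • y0) y0 = 0 := by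
    intro z hz
    refine ⟨Z.sub_mem hz (Z.smul_mem _ hy0), ?_⟩
    rw [h_sub_left, h_smul_left, ← hN0, div_mul_cancel₀ _ hN, sub_self]
  set z1 := z' - (h z' y0 / N0) • y0 with hz1
  have hz1Z : z1 ∈ Z := (hP z' hz').1
  have hz1p : h z1 y0 = 0 := (hP z' hz').2
  have hz1ne : z1 ≠ 0 := by
    intro h0
    exact hz'n _ (sub_eq_zero.mp h0)
  by_cases hN1 : h z1 z1 = 0
  · obtain ⟨z2, hz2, hβ⟩ : ∃ z2 ∈ Z, h z1 z2 ≠ 0 := by
      by_contra hcon
      push Not at hcon
      exact hz1ne (hZ z1 hz1Z hcon)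
    set z3 := z2 - (h z2 y0 / N0) • y0 with hz3
    have hz3Z : z3 ∈ Z := (hP z2 hz2).1
    have hz3p : h z3 y0 = 0 := (hP z2 hz2).2
    have h13 : h z1 z3 = h z1 z2 := by
      rw [hz3, h_sub_right D, h_smul_right D, hz1p, mul_zero, sub_zero]
    by_cases hN3 : h z3 z3 = 0
    · set β := h z1 z3 with hβdef
      have hβ' : β ≠ 0 := by rw [h13]; exact hβ
      obtain ⟨t, ht⟩ := exists_trace_ne D
      have hσβ : D.σ β ≠ 0 := σ_ne_zero D hβ'
      refine ⟨z1 + (t / D.σ β) • z3, Z.add_mem hz1Z (Z.smul_mem _ hz3Z), ?_, ?_⟩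
      · rw [h_add_left, h_smul_left, hz1p, hz3p, mul_zero, add_zero]
      · have h31 : h z3 z1 = D.σ β := (h_conj D z3 z1).symm
        have e1 : D.σ (t / D.σ β) * β = D.σ t := by
          rw [map_div₀, D.invol, div_mul_cancel₀ _ hβ']
        have e2 : t / D.σ β * D.σ β = t := div_mul_cancel₀ _ hσβ
        rw [h_self_add_smul D, hN1, hN3, h31, e1, e2, mul_zero, add_zero, zero_add, add_comm]
        exact ht
    · exact ⟨z3, hz3Z, hz3p, hN3⟩
  · exact ⟨z1, hz1Z, hz1p, hN1⟩

/-- an isotropic vector not orthogonal to a given nonzero vector -/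
theorem exists_iso_pair [Finite K] {Z : Submodule K (Fin n → K)} (hZ : NonDeg q Z) {y0 : Fin n → K}
    (hy0 : y0 ∈ Z) (hne : y0 ≠ 0) (hz' : ∃ z' ∈ Z, ∀ a : K, z' ≠ a • y0) :
    ∃ x ∈ Z, h x x = 0 ∧ h y0 x ≠ 0 := by
  by_cases hiso : h y0 y0 = 0
  · exact exists_iso_of_iso D hZ hy0 hne hiso
  · obtain ⟨z', hz'Z, hz'n⟩ := hz'
    obtain ⟨z, hzZ, hzp, hzN⟩ := exists_aniso_perp D hZ hy0 hiso hz'Z hz'n
    have hfix : D.σ (-(h y0 y0) / h z z) = -(h y0 y0) / h z z := by
      rw [map_div₀, map_neg, h_self_fix D, h_self_fix D]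
    obtain ⟨l, hl⟩ := exists_norm D (-(h y0 y0) / h z z)
      (div_ne_zero (neg_ne_zero.mpr hiso) hzN) hfix
    refine ⟨y0 + l • z, Z.add_mem hy0 (Z.smul_mem _ hzZ), ?_, ?_⟩
    · rw [h_self_add_smul D, hzp, h_symm_zero D hzp, mul_zero, mul_zero, add_zero, add_zero, hl,
        div_mul_cancel₀ _ hzN, add_neg_cancel]
    · rw [h_add_right D, h_smul_right D, h_symm_zero D hzp, mul_zero, add_zero]
      exact hiso

/-- hyperbolic partner -/
theorem exists_partner {Y : Submodule K (Fin n → K)} (hY : NonDeg q Y) {u : Fin n → K}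
    (hu : u ∈ Y) (hne : u ≠ 0) (hiso : h u u = 0) :
    ∃ v ∈ Y, h v v = 0 ∧ h u v = 1 ∧ h v u = 1 := by
  obtain ⟨x, hx, hxx, hβ⟩ := exists_iso_of_iso D hY hu hne hiso
  have h1 : h u (D.σ (h u x)⁻¹ • x) = 1 := by
    rw [h_smul_right D, D.invol, inv_mul_cancel₀ hβ]
  refine ⟨D.σ (h u x)⁻¹ • x, Y.smul_mem _ hx, ?_, h1, ?_⟩
  · rw [h_smul_left, h_smul_right D, hxx, mul_zero, mul_zero]
  · rw [← h_conj D, h1, map_one]

/-- a hyperbolic pair in a non-degenerate subspace of dimension at least two -/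
theorem exists_hyp_pair [Finite K] {Y : Submodule K (Fin n → K)} (hY : NonDeg q Y)
    (hd : 2 ≤ finrank K Y) :
    ∃ u ∈ Y, ∃ v ∈ Y, u ≠ 0 ∧ h u u = 0 ∧ h v v = 0 ∧ h u v = 1 ∧ h v u = 1 := by
  obtain ⟨y1, hy1, hy1n⟩ := exists_not_smul hd (0 : Fin n → K)
  have hy1ne : y1 ≠ 0 := by
    intro h0; exact hy1n 0 (by rw [h0, smul_zero])
  obtain ⟨z', hz', hz'n⟩ := exists_not_smul hd y1
  obtain ⟨u, hu, huu, hyu⟩ := exists_iso_pair D hY hy1 hy1ne ⟨z', hz', hz'n⟩
  have hune : u ≠ 0 := by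
    rintro rfl
    exact hyu (h_zero_right D y1)
  obtain ⟨v, hv, hvv, huv, hvu⟩ := exists_partner D hY hu hune huu
  exact ⟨u, hu, v, hv, hune, huu, hvv, huv, hvu⟩

/-! ### cutting down by a hyperbolic pair -/

theorem mem_perpL_sup_pair (X : Submodule K (Fin n → K)) (u v y : Fin n → K) :
    y ∈ perpL q (X ⊔ Submodule.span K {u, v}) ↔ y ∈ perpL q X ∧ h y u = 0 ∧ h y v = 0 := by
  constructor
  · intro hy
    refine ⟨fun x hx => hy x (Submodule.mem_sup_left hx), ?_, ?_⟩
    · exact hy u (Submodule.mem_sup_right (Submodule.subset_span (by simp)))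
    · exact hy v (Submodule.mem_sup_right (Submodule.subset_span (by simp)))
  · rintro ⟨hyX, hyu, hyv⟩ x hx
    obtain ⟨x1, hx1, x2, hx2, rfl⟩ := Submodule.mem_sup.mp hx
    obtain ⟨a, b, rfl⟩ := Submodule.mem_span_pair.mp hx2
    rw [h_add_right D, h_add_right D, h_smul_right D, h_smul_right D, hyX x1 hx1, hyu, hyv]
    ring

theorem nonDeg_cut {X : Submodule K (Fin n → K)} (hY : NonDeg q (perpL q X)) {u v : Fin n → K}
    (hu : u ∈ perpL q X) (hv : v ∈ perpL q X) (huu : h u u = 0) (hvv : h v v = 0)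
    (huv : h u v = 1) (hvu : h v u = 1) :
    NonDeg q (perpL q (X ⊔ Submodule.span K {u, v})) := by
  intro y' hy' hall
  rw [mem_perpL_sup_pair D] at hy'
  obtain ⟨hy'X, hy'u, hy'v⟩ := hy'
  apply hY y' hy'X
  intro y hy
  have hmem : y - h y v • u - h y u • v ∈ perpL q (X ⊔ Submodule.span K {u, v}) := by
    rw [mem_perpL_sup_pair D]
    refine ⟨Submodule.sub_mem _ (Submodule.sub_mem _ hy (Submodule.smul_mem _ _ hu))
      (Submodule.smul_mem _ _ hv), ?_, ?_⟩
    · rw [h_sub_left, h_sub_left, h_smul_left, h_smul_left, huu, hvu]; ring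
    · rw [h_sub_left, h_sub_left, h_smul_left, h_smul_left, hvv, huv]; ring
  have h1 := hall _ hmem
  rw [h_sub_right D, h_sub_right D, h_smul_right D, h_smul_right D, hy'u, hy'v] at h1
  linear_combination h1

theorem finrank_cut_lt (X : Submodule K (Fin n → K)) {u v : Fin n → K}
    (hu : u ∈ perpL q X) (huv : h u v = 1) :
    finrank K (perpL q (X ⊔ Submodule.span K {u, v})) < finrank K (perpL q X) := by
  apply Submodule.finrank_lt_finrank_of_lt
  refine lt_of_le_of_ne (perpL_anti le_sup_left) ?_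
  intro heq
  have : u ∈ perpL q (X ⊔ Submodule.span K {u, v}) := by rw [heq]; exact hu
  rw [mem_perpL_sup_pair D] at this
  rw [this.2.2] at huv
  exact zero_ne_one huv

end Cfsg.Agent.Helper2.SUGen
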