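import Mathlib
import Cfsg.Agent.Helper2.SU.Iso

/-! The group generated by Siegel elements of a non-degenerate subspace is transitive on hyperbolic pairs. -/

set_option autoImplicit false

namespace Cfsg.Agent.Helper2.SUGen

open Matrix Module Cfsg.Agent.S2644

variable {K : Type*} [Field K] {q n : ℕ}

local notation "h" => Cfsg.hermForm n K q

/-- Siegel generators attached to a subspace -/
def SgSet (D : Frob K q) (Y : Submodule K (Fin n → K)) : Set (Matrix (Fin n) (Fin n) K) :=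
  {M | ∃ (x w : Fin n → K) (c : K), x ∈ Y ∧ w ∈ Y ∧ Cfsg.hermForm n K q x x = 0 ∧
    Cfsg.hermForm n K q w x = 0 ∧ c + D.σ c + Cfsg.hermForm n K q w w = 0 ∧ M = Sg (q := q) x w c}

/-- the monoid generated by the Siegel elements of a subspace -/
def Gen (D : Frob K q) (Y : Submodule K (Fin n → K)) : Submonoid (Matrix (Fin n) (Fin n) K) :=
  Submonoid.closure (SgSet D Y)

theorem Pres_one : Pres (q := q) (1 : Matrix (Fin n) (Fin n) K) := by
  intro x y; rw [one_mulVec, one_mulVec]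

variable (D : Frob K q)

include D

theorem Gen_mono {Y Y' : Submodule K (Fin n → K)} (hYY : Y ≤ Y') : Gen D Y ≤ Gen D Y' := by
  apply Submonoid.closure_mono
  rintro M ⟨x, w, c, hx, hw, h1, h2, h3, rfl⟩
  exact ⟨x, w, c, hYY hx, hYY hw, h1, h2, h3, rfl⟩

theorem Gen_pres {Y : Submodule K (Fin n → K)} {M : Matrix (Fin n) (Fin n) K} (hM : M ∈ Gen D Y) :
    Pres (q := q) M := by
  induction hM using Submonoid.closure_induction with
  | mem M hM =>
    obtain ⟨x, w, c, -, -, h1, h2, h3, rfl⟩ := hM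
    exact Sg_pres D x w c h1 h2 h3
  | one => exact Pres_one
  | mul A B _ _ hA hB => exact hA.mul hB

theorem Gen_det {Y : Submodule K (Fin n → K)} {M : Matrix (Fin n) (Fin n) K} (hM : M ∈ Gen D Y) :
    M.det = 1 := by
  induction hM using Submonoid.closure_induction with
  | mem M hM =>
    obtain ⟨x, w, c, -, -, h1, h2, h3, rfl⟩ := hM
    exact Sg_det D x w c h1 h2
  | one => exact det_one
  | mul A B _ _ hA hB => rw [det_mul, hA, hB, one_mul]

theorem Gen_maps {Y : Submodule K (Fin n → K)} {M : Matrix (Fin n) (Fin n) K} (hM : M ∈ Gen D Y) :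
    ∀ z ∈ Y, M *ᵥ z ∈ Y := by
  induction hM using Submonoid.closure_induction with
  | mem M hM =>
    obtain ⟨x, w, c, hx, hw, h1, h2, h3, rfl⟩ := hM
    intro z hz
    rw [Sg_mulVec]
    exact Y.add_mem (Y.sub_mem (Y.add_mem hz (Y.smul_mem _ hw)) (Y.smul_mem _ hx)) (Y.smul_mem _ hx)
  | one => intro z hz; rwa [one_mulVec]
  | mul A B _ _ hA hB =>
    intro z hz
    rw [← mulVec_mulVec]
    exact hA _ (hB z hz)

theorem Gen_fix {Y : Submodule K (Fin n → K)} {M : Matrix (Fin n) (Fin n) K} (hM : M ∈ Gen D Y) :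
    ∀ z, (∀ y ∈ Y, h z y = 0) → M *ᵥ z = z := by
  induction hM using Submonoid.closure_induction with
  | mem M hM =>
    obtain ⟨x, w, c, hx, hw, h1, h2, h3, rfl⟩ := hM
    intro z hz
    rw [Sg_mulVec, hz x hx, hz w hw]
    module
  | one => intro z _; rw [one_mulVec]
  | mul A B _ _ hA hB =>
    intro z hz
    rw [← mulVec_mulVec, hB z hz, hA z hz]

theorem Gen_inv {Y : Submodule K (Fin n → K)} {M : Matrix (Fin n) (Fin n) K} (hM : M ∈ Gen D Y) :
    ∃ M' ∈ Gen D Y, M' * M = 1 ∧ M * M' = 1 := by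
  induction hM using Submonoid.closure_induction with
  | mem M hM =>
    obtain ⟨x, w, c, hx, hw, h1, h2, h3, rfl⟩ := hM
    have hi := Sg_inv D x w c h1 h2 h3
    refine ⟨Sg (q := q) x (-w) (D.σ c), Submonoid.subset_closure ?_, hi.2, hi.1⟩
    refine ⟨x, -w, D.σ c, hx, Y.neg_mem hw, h1, ?_, cond_inv D w c h3, rfl⟩
    rw [h_neg_left, h2, neg_zero]
  | one => exact ⟨1, Submonoid.one_mem _, one_mul 1, one_mul 1⟩
  | mul A B _ _ hA hB =>
    obtain ⟨A', hA', hA1, hA2⟩ := hA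
    obtain ⟨B', hB', hB1, hB2⟩ := hB
    refine ⟨B' * A', Submonoid.mul_mem _ hB' hA', ?_, ?_⟩
    · rw [Matrix.mul_assoc, ← Matrix.mul_assoc A', hA1, Matrix.one_mul, hB1]
    · rw [Matrix.mul_assoc, ← Matrix.mul_assoc B, hB2, Matrix.one_mul, hA2]

/-- one adjacency step -/
theorem adj_step {Y : Submodule K (Fin n → K)} {x y y' : Fin n → K} (hx : x ∈ Y) (hy : y ∈ Y)
    (hy' : y' ∈ Y) (hxx : h x x = 0) (hyy : h y y = 0) (hyy' : h y' y' = 0)
    (hk : h y x ≠ 0) (hyx : h y' x = h y x) :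
    ∃ t ∈ Gen D Y, t *ᵥ y = y' := by
  obtain ⟨w, c, ⟨a, hwa⟩, hwx, hc, hmap⟩ := Sg_map D x y y' hxx hyy hyy' hk hyx
  refine ⟨Sg (q := q) x w c, Submonoid.subset_closure ?_, hmap⟩
  refine ⟨x, w, c, hx, ?_, hxx, hwx, hc, rfl⟩
  rw [hwa]
  exact Y.smul_mem _ (Y.sub_mem hy' hy)

theorem mem_perpL_singleton (d z : Fin n → K) :
    z ∈ perpL q (Submodule.span K {d}) ↔ h z d = 0 := by
  rw [mem_perpL]
  constructor
  · intro hz; exact hz d (Submodule.subset_span rfl)
  · intro hz x hx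
    obtain ⟨a, rfl⟩ := Submodule.mem_span_singleton.mp hx
    rw [h_smul_right D, hz, mul_zero]

/-- case A: the difference is anisotropic -/
theorem trans_aniso [Finite K] {Y : Submodule K (Fin n → K)} (hY : NonDeg q Y)
    (hd : 3 ≤ finrank K Y) {y y' : Fin n → K} (hy : y ∈ Y) (hy' : y' ∈ Y) (hyy : h y y = 0)
    (hyy' : h y' y' = 0) (hy0 : y ≠ 0) (hN : h (y' - y) (y' - y) ≠ 0) :
    ∃ t ∈ Gen D Y, t *ᵥ y = y' := by
  set d := y' - y with hddef
  have hdY : d ∈ Y := Y.sub_mem hy' hy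
  set N0 := h d d with hN0
  set Z : Submodule K (Fin n → K) := Y ⊓ perpL q (Submodule.span K {d}) with hZdef
  have hZmem : ∀ z, z ∈ Z ↔ z ∈ Y ∧ h z d = 0 := by
    intro z
    rw [hZdef, Submodule.mem_inf, mem_perpL_singleton D]
  have hP : ∀ z ∈ Y, (z - (h z d / N0) • d) ∈ Z := by
    intro z hz
    rw [hZmem]
    refine ⟨Y.sub_mem hz (Y.smul_mem _ hdY), ?_⟩
    rw [h_sub_left, h_smul_left, ← hN0, div_mul_cancel₀ _ hN, sub_self]
  have hZnd : NonDeg q Z := by
    intro z hz hall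
    have hz' := (hZmem z).1 hz
    apply hY z hz'.1
    intro y1 hy1
    have h1 := hall _ (hP y1 hy1)
    rw [h_sub_right D, h_smul_right D, hz'.2, mul_zero, sub_zero] at h1
    exact h1
  set y0 := y - (h y d / N0) • d with hy0def
  have hy0Z : y0 ∈ Z := hP y hy
  have hy0ne : y0 ≠ 0 := by
    intro h0
    have h1 : y = (h y d / N0) • d := sub_eq_zero.mp h0
    have h2 : h y y = (h y d / N0) * D.σ (h y d / N0) * N0 := by
      conv_lhs => rw [h1]
      rw [h_smul_left, h_smul_right D]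
      ring
    rw [hyy] at h2
    have h3 : h y d / N0 = 0 := by
      rcases mul_eq_zero.mp h2.symm with h4 | h4
      · rcases mul_eq_zero.mp h4 with h5 | h5
        · exact h5
        · have := σ_injective D (h5.trans (map_zero _).symm)
          exact this
      · exact absurd h4 hN
    rw [h3, zero_smul] at h1
    exact hy0 h1
  obtain ⟨y1, hy1, hy1n⟩ := exists_not_pair hd d y0
  have hz' : ∃ z' ∈ Z, ∀ a : K, z' ≠ a • y0 := by
    refine ⟨_, hP y1 hy1, ?_⟩
    intro a ha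
    apply hy1n (h y1 d / N0) a
    rw [← ha]
    module
  obtain ⟨x, hxZ, hxx, hyx⟩ := exists_iso_pair D hZnd hy0Z hy0ne hz'
  have hx' := (hZmem x).1 hxZ
  have hdx : h d x = 0 := h_symm_zero D hx'.2
  have hyx' : h y x = h y0 x := by
    rw [hy0def, h_sub_left, h_smul_left, hdx, mul_zero, sub_zero]
  have hy'x : h y' x = h y x := by
    have : y' = y + d := by rw [hddef]; module
    rw [this, h_add_left, hdx, add_zero]
  have hk : h y x ≠ 0 := by
    rw [hyx']
    exact hyx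
  exact adj_step D hx'.1 hy hy' hxx hyy hyy' hk hy'x

/-- two traces can be made nonzero simultaneously -/
theorem exists_two_traces {a b : K} (ha : a ≠ 0) (hb : b ≠ 0) :
    ∃ l : K, l * a + D.σ (l * a) ≠ 0 ∧ l * b + D.σ (l * b) ≠ 0 := by
  obtain ⟨t, ht⟩ := exists_trace_ne D
  have e1 : t / a * a = t := div_mul_cancel₀ _ ha
  have e2 : t / b * b = t := div_mul_cancel₀ _ hb
  by_cases h1 : (t / a) * b + D.σ ((t / a) * b) = 0
  · by_cases h2 : (t / b) * a + D.σ ((t / b) * a) = 0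
    · refine ⟨t / a + t / b, ?_, ?_⟩
      · rw [add_mul, map_add, e1]
        intro h3; apply ht
        linear_combination h3 - h2
      · rw [add_mul, map_add, e2]
        intro h3; apply ht
        linear_combination h3 - h1
    · exact ⟨t / b, h2, by rw [e2]; exact ht⟩
  · exact ⟨t / a, by rw [e1]; exact ht, h1⟩

/-- an isotropic vector not orthogonal to two given isotropic vectors -/
theorem exists_iso_both {Y : Submodule K (Fin n → K)} (hY : NonDeg q Y) {y y' : Fin n → K}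
    (hy : y ∈ Y) (hy' : y' ∈ Y) (hyy : h y y = 0) (hyy' : h y' y' = 0) (hy0 : y ≠ 0)
    (hy0' : y' ≠ 0) :
    ∃ z ∈ Y, h z z = 0 ∧ h z y ≠ 0 ∧ h z y' ≠ 0 := by
  obtain ⟨z1, hz1, hz11, hyz1⟩ := exists_iso_of_iso D hY hy hy0 hyy
  obtain ⟨z2, hz2, hz22, hyz2⟩ := exists_iso_of_iso D hY hy' hy0' hyy'
  have hz1y : h z1 y ≠ 0 := h_symm_ne D hyz1
  have hz2y' : h z2 y' ≠ 0 := h_symm_ne D hyz2
  by_cases h1 : h z1 y' = 0
  · by_cases h2 : h z2 y = 0
    · by_cases h12 : h z1 z2 = 0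
      · refine ⟨z1 + z2, Y.add_mem hz1 hz2, ?_, ?_, ?_⟩
        · rw [h_add_left, h_add_right D, h_add_right D, hz11, hz22, h12, h_symm_zero D h12]
          ring
        · rw [h_add_left, h2, add_zero]; exact hz1y
        · rw [h_add_left, h1, zero_add]; exact hz2y'
      · obtain ⟨s, hs0, hs⟩ := exists_skew D
        have h21 : h z2 z1 ≠ 0 := h_symm_ne D h12
        set μ := s / h z2 z1 with hμ
        have hμ0 : μ ≠ 0 := div_ne_zero hs0 h21
        have e1 : μ * h z2 z1 = s := div_mul_cancel₀ _ h21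
        have e2 : D.σ μ * h z1 z2 = -s := by
          rw [← h_conj D z1 z2, ← map_mul, e1, hs]
        refine ⟨z1 + μ • z2, Y.add_mem hz1 (Y.smul_mem _ hz2), ?_, ?_, ?_⟩
        · rw [h_self_add_smul D, hz11, hz22, e1, e2]; ring
        · rw [h_add_left, h_smul_left, h2, mul_zero, add_zero]; exact hz1y
        · rw [h_add_left, h_smul_left, h1, zero_add]; exact mul_ne_zero hμ0 hz2y'
    · exact ⟨z2, hz2, hz22, h2, hz2y'⟩
  · exact ⟨z1, hz1, hz11, hz1y, h1⟩

theorem h_sub_self_iso {y y'' : Fin n → K} (hyy : h y y = 0) (hyy'' : h y'' y'' = 0) :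
    h (y'' - y) (y'' - y) = -(h y'' y + D.σ (h y'' y)) := by
  rw [h_sub_left, h_sub_right D, h_sub_right D, hyy, hyy'', h_conj D]
  ring

/-- transitivity on nonzero isotropic vectors -/
theorem trans_iso [Finite K] {Y : Submodule K (Fin n → K)} (hY : NonDeg q Y)
    (hd : 3 ≤ finrank K Y) {y y' : Fin n → K} (hy : y ∈ Y) (hy' : y' ∈ Y) (hyy : h y y = 0)
    (hyy' : h y' y' = 0) (hy0 : y ≠ 0) (hy0' : y' ≠ 0) :
    ∃ t ∈ Gen D Y, t *ᵥ y = y' := by
  by_cases hN : h (y' - y) (y' - y) = 0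
  · obtain ⟨z, hz, hzz, hzy, hzy'⟩ := exists_iso_both D hY hy hy' hyy hyy' hy0 hy0'
    obtain ⟨l, hl1, hl2⟩ := exists_two_traces D hzy hzy'
    set y'' := l • z with hy''
    have hy''Y : y'' ∈ Y := Y.smul_mem _ hz
    have hy''iso : h y'' y'' = 0 := by
      rw [hy'', h_smul_left, h_smul_right D, hzz, mul_zero, mul_zero]
    have hy''ne : y'' ≠ 0 := by
      intro h0
      apply hl1
      have : l * h z y = h y'' y := by rw [hy'', h_smul_left]
      rw [this, h0, h_zero_left, map_zero, add_zero]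
    have hN1 : h (y'' - y) (y'' - y) ≠ 0 := by
      rw [h_sub_self_iso D hyy hy''iso, hy'', h_smul_left]
      exact neg_ne_zero.mpr hl1
    have hN2 : h (y' - y'') (y' - y'') ≠ 0 := by
      have e : h (y' - y'') (y' - y'') = h (y'' - y') (y'' - y') := by
        have : y' - y'' = -(y'' - y') := by module
        rw [this, h_neg_left, h_neg_right D, neg_neg]
      rw [e, h_sub_self_iso D hyy' hy''iso, hy'', h_smul_left]
      exact neg_ne_zero.mpr hl2
    obtain ⟨t1, ht1, ht1y⟩ := trans_aniso D hY hd hy hy''Y hyy hy''iso hy0 hN1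
    obtain ⟨t2, ht2, ht2y⟩ := trans_aniso D hY hd hy''Y hy' hy''iso hyy' hy''ne hN2
    refine ⟨t2 * t1, Submonoid.mul_mem _ ht2 ht1, ?_⟩
    rw [← mulVec_mulVec, ht1y, ht2y]
  · exact trans_aniso D hY hd hy hy' hyy hyy' hy0 hN

/-- transitivity on hyperbolic pairs -/
theorem trans_pair [Finite K] {Y : Submodule K (Fin n → K)} (hY : NonDeg q Y)
    (hd : 3 ≤ finrank K Y) {u v u' v' : Fin n → K} (hu : u ∈ Y) (hv : v ∈ Y) (hu' : u' ∈ Y)
    (hv' : v' ∈ Y) (huu : h u u = 0) (hvv : h v v = 0) (hvu : h v u = 1)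
    (huu' : h u' u' = 0) (hvv' : h v' v' = 0) (hvu' : h v' u' = 1) :
    ∃ t ∈ Gen D Y, t *ᵥ u = u' ∧ t *ᵥ v = v' := by
  have hu0 : u ≠ 0 := by
    rintro rfl
    rw [h_zero_right D] at hvu
    exact zero_ne_one hvu
  have hu0' : u' ≠ 0 := by
    rintro rfl
    rw [h_zero_right D] at hvu'
    exact zero_ne_one hvu'
  obtain ⟨t1, ht1, ht1u⟩ := trans_iso D hY hd hu hu' huu huu' hu0 hu0'
  have hP := Gen_pres D ht1
  set v1 := t1 *ᵥ v with hv1
  have hv1Y : v1 ∈ Y := Gen_maps D ht1 v hv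
  have hv1iso : h v1 v1 = 0 := by rw [hv1, hP, hvv]
  have hv1u : h v1 u' = 1 := by rw [hv1, ← ht1u, hP, hvu]
  obtain ⟨w, c, ⟨a, hwa⟩, hwx, hc, hmap⟩ := Sg_map D u' v1 v' huu' hv1iso hvv'
    (by rw [hv1u]; exact one_ne_zero) (by rw [hv1u, hvu'])
  have hwY : w ∈ Y := by
    rw [hwa]; exact Y.smul_mem _ (Y.sub_mem hv' hv1Y)
  refine ⟨Sg (q := q) u' w c * t1, Submonoid.mul_mem _ (Submonoid.subset_closure
    ⟨u', w, c, hu', hwY, huu', hwx, hc, rfl⟩) ht1, ?_, ?_⟩
  · rw [← mulVec_mulVec, ht1u, Sg_mulVec, huu', h_symm_zero D hwx]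
    module
  · rw [← mulVec_mulVec, ← hv1, hmap]

end Cfsg.Agent.Helper2.SUGen
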