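import Mathlib
import Cfsg.Agent.Helper2.SU.Trans

/-! The special unitary group of a hyperbolic plane is generated by its transvections; base cases. -/

set_option autoImplicit false

namespace Cfsg.Agent.Helper2.SUGen

open Matrix Module Cfsg.Agent.S2644 Cfsg.Agent.Helper28 Cfsg.Agent.Helper28.HermFrame

variable {K : Type*} [Field K] {q n : ℕ}

local notation "h" => Cfsg.hermForm n K q
local notation "T" => Cfsg.unitaryTransvection n q

/-- a hyperbolic pair -/
structure HypPair (q : ℕ) (u v : Fin n → K) : Prop where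
  huu : Cfsg.hermForm n K q u u = 0
  hvv : Cfsg.hermForm n K q v v = 0
  huv : Cfsg.hermForm n K q u v = 1
  hvu : Cfsg.hermForm n K q v u = 1

theorem det_T' (v : Fin n → K) (c : K) : (T v c).det = 1 + c * h v v := by
  unfold Cfsg.unitaryTransvection
  rw [← Matrix.smul_vecMulVec, Matrix.vecMulVec_eq Unit,
    Matrix.det_one_add_replicateCol_mul_replicateRow]
  have : (fun j => v j ^ q) ⬝ᵥ (c • v) = c * h v v := by
    simp only [dotProduct, Cfsg.hermForm, Pi.smul_apply, smul_eq_mul, Finset.mul_sum]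
    apply Finset.sum_congr rfl
    intro i _
    ring
  rw [this]

variable (D : Frob K q)

include D

theorem perpL_eq_perp (X : Submodule K (Fin n → K)) : perpL q X = HW.perp (hB D.σ n) X := by
  ext y
  rw [mem_perpL, HW.mem_perp]
  constructor
  · intro hy x hx; rw [hB_eq_herm D.σ D.pow]; exact hy x hx
  · intro hy x hx; rw [← hB_eq_herm D.σ D.pow]; exact hy x hx

theorem perpL_perpL (X : Submodule K (Fin n → K)) : perpL q (perpL q X) = X := by
  rw [perpL_eq_perp D, perpL_eq_perp D]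
  exact HW.perp_perp D.invol (hB_isSymm D.σ D.invol n) (hB_nondeg D.σ D.invol n) X

theorem finrank_perpL (X : Submodule K (Fin n → K)) : finrank K (perpL q X) + finrank K X = n := by
  rw [perpL_eq_perp D]
  have := HW.finrank_perp D.invol (hB_nondeg D.σ D.invol n) X
  rw [this, Module.finrank_fin_fun]

theorem T_mem_Gen {Y : Submodule K (Fin n → K)} {x : Fin n → K} (hx : x ∈ Y) (hxx : h x x = 0)
    {c : K} (hc : D.σ c = -c) : T x c ∈ Gen D Y := by
  apply Submonoid.subset_closure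
  refine ⟨x, 0, c, hx, Y.zero_mem, hxx, h_zero_left x, ?_, (Sg_zero D x c).symm⟩
  rw [h_zero_left, hc]; ring

/-- transvection generators with centres in a subspace -/
def TSet (D : Frob K q) (Y : Submodule K (Fin n → K)) : Set (Matrix (Fin n) (Fin n) K) :=
  {M | ∃ (x : Fin n → K) (c : K), x ∈ Y ∧ Cfsg.hermForm n K q x x = 0 ∧ D.σ c = -c ∧
    M = Cfsg.unitaryTransvection n q x c}

/-- the monoid generated by the unitary transvections with centres in a subspace -/
def TT (D : Frob K q) (Y : Submodule K (Fin n → K)) : Submonoid (Matrix (Fin n) (Fin n) K) :=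
  Submonoid.closure (TSet D Y)

theorem T_mem_TT {Y : Submodule K (Fin n → K)} {x : Fin n → K} (hx : x ∈ Y) (hxx : h x x = 0)
    {c : K} (hc : D.σ c = -c) : T x c ∈ TT D Y :=
  Submonoid.subset_closure ⟨x, c, hx, hxx, hc, rfl⟩

theorem TT_le_Gen (Y : Submodule K (Fin n → K)) : TT D Y ≤ Gen D Y := by
  apply Submonoid.closure_le.mpr
  rintro M ⟨x, c, hx, hxx, hc, rfl⟩
  exact T_mem_Gen D hx hxx hc

theorem TT_mono {Y Y' : Submodule K (Fin n → K)} (hYY : Y ≤ Y') : TT D Y ≤ TT D Y' := by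
  apply Submonoid.closure_mono
  rintro M ⟨x, c, hx, h1, h2, rfl⟩
  exact ⟨x, c, hYY hx, h1, h2, rfl⟩

theorem TT_inv {Y : Submodule K (Fin n → K)} {M : Matrix (Fin n) (Fin n) K} (hM : M ∈ TT D Y) :
    ∃ M' ∈ TT D Y, M' * M = 1 ∧ M * M' = 1 := by
  induction hM using Submonoid.closure_induction with
  | mem M hM =>
    obtain ⟨x, c, hx, hxx, hc, rfl⟩ := hM
    have hc' : D.σ (-c) = -(-c) := by rw [map_neg, hc]
    refine ⟨T x (-c), T_mem_TT D hx hxx hc', ?_, ?_⟩
    · rw [Cfsg.Agent.S0781.T_mul D.σ D.pow x (-c) c hxx, neg_add_cancel]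
      exact Cfsg.Agent.S0781.T_zero_coeff x
    · rw [Cfsg.Agent.S0781.T_mul D.σ D.pow x c (-c) hxx, add_neg_cancel]
      exact Cfsg.Agent.S0781.T_zero_coeff x
  | one => exact ⟨1, Submonoid.one_mem _, one_mul 1, one_mul 1⟩
  | mul A B _ _ hA hB =>
    obtain ⟨A', hA', hA1, hA2⟩ := hA
    obtain ⟨B', hB', hB1, hB2⟩ := hB
    refine ⟨B' * A', Submonoid.mul_mem _ hB' hA', ?_, ?_⟩
    · rw [Matrix.mul_assoc, ← Matrix.mul_assoc A', hA1, Matrix.one_mul, hB1]
    · rw [Matrix.mul_assoc, ← Matrix.mul_assoc B, hB2, Matrix.one_mul, hA2]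

section plane

variable {u v : Fin n → K} (H : HypPair q u v)

include H

theorem decomp_perp (z : Fin n → K) :
    h (z - h z v • u - h z u • v) u = 0 ∧ h (z - h z v • u - h z u • v) v = 0 := by
  constructor
  · rw [h_sub_left, h_sub_left, h_smul_left, h_smul_left, H.huu, H.hvu]; ring
  · rw [h_sub_left, h_sub_left, h_smul_left, h_smul_left, H.hvv, H.huv]; ring

theorem exists_decomp (z : Fin n → K) :
    ∃ z0, h z0 u = 0 ∧ h z0 v = 0 ∧ z = z0 + h z v • u + h z u • v :=
  ⟨z - h z v • u - h z u • v, (decomp_perp D H z).1, (decomp_perp D H z).2, by module⟩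

theorem ext_plane {M M' : Matrix (Fin n) (Fin n) K}
    (h0 : ∀ z, h z u = 0 → h z v = 0 → M *ᵥ z = M' *ᵥ z) (hu : M *ᵥ u = M' *ᵥ u)
    (hv : M *ᵥ v = M' *ᵥ v) : M = M' := by
  apply mat_ext
  intro z
  obtain ⟨z0, h1, h2, hz⟩ := exists_decomp D H z
  rw [hz, mulVec_add, mulVec_add, mulVec_smul, mulVec_smul, mulVec_add, mulVec_add, mulVec_smul,
    mulVec_smul, h0 z0 h1 h2, hu, hv]

theorem in_plane (m : Fin n → K) (hm : ∀ z0, h z0 u = 0 → h z0 v = 0 → h m z0 = 0) :
    m = h m v • u + h m u • v := by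
  have hr := decomp_perp D H m
  set r := m - h m v • u - h m u • v with hrdef
  have hr0 : r = 0 := by
    apply h_nondeg D
    intro y
    obtain ⟨y0, h1, h2, hy⟩ := exists_decomp D H y
    rw [hy, h_add_right D, h_add_right D, h_smul_right D, h_smul_right D, hr.1, hr.2, mul_zero,
      mul_zero, add_zero, add_zero, hrdef, h_sub_left, h_sub_left, h_smul_left, h_smul_left,
      hm y0 h1 h2, h_symm_zero D h1, h_symm_zero D h2]
    ring
  have : m = r + h m v • u + h m u • v := by rw [hrdef]; module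
  rw [hr0, zero_add] at this
  exact this

theorem Tu_u (c : K) : T u c *ᵥ u = u := by
  rw [T_mulVec, H.huu, mul_zero, zero_smul, add_zero]

theorem Tu_v (c : K) : T u c *ᵥ v = v + c • u := by
  rw [T_mulVec, H.hvu, mul_one]

theorem Tv_u (c : K) : T v c *ᵥ u = u + c • v := by
  rw [T_mulVec, H.huv, mul_one]

theorem Tv_v (c : K) : T v c *ᵥ v = v := by
  rw [T_mulVec, H.hvv, mul_zero, zero_smul, add_zero]

theorem u_mem : u ∈ Submodule.span K ({u, v} : Set (Fin n → K)) := Submodule.subset_span (by simp)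

theorem v_mem : v ∈ Submodule.span K ({u, v} : Set (Fin n → K)) := Submodule.subset_span (by simp)

omit H in
theorem perp_span_pair {z : Fin n → K} (h1 : h z u = 0) (h2 : h z v = 0) :
    ∀ y ∈ Submodule.span K ({u, v} : Set (Fin n → K)), h z y = 0 := by
  intro y hy
  obtain ⟨a, b, rfl⟩ := Submodule.mem_span_pair.mp hy
  rw [h_add_right D, h_smul_right D, h_smul_right D, h1, h2]; ring

/-- the Weyl element -/
theorem wel {a : K} (ha : a ≠ 0) (hs : D.σ a = -a) :
    ∃ t ∈ TT D (Submodule.span K ({u, v} : Set (Fin n → K))),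
      t *ᵥ u = (-a⁻¹) • v ∧ t *ᵥ v = a • u := by
  have hs' : D.σ (-a⁻¹) = -(-a⁻¹) := by
    rw [map_neg, map_inv₀, hs]; field_simp
  refine ⟨T u a * T v (-a⁻¹) * T u a, Submonoid.mul_mem _ (Submonoid.mul_mem _
    (T_mem_TT D (u_mem D H) H.huu hs) (T_mem_TT D (v_mem D H) H.hvv hs'))
    (T_mem_TT D (u_mem D H) H.huu hs), ?_, ?_⟩
  · rw [← mulVec_mulVec, ← mulVec_mulVec, Tu_u D H, Tv_u D H, mulVec_add, mulVec_smul, Tu_u D H,
      Tu_v D H]
    have : -a⁻¹ * a = -1 := by field_simp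
    have e : u + (-a⁻¹) • (v + a • u) = (1 + -a⁻¹ * a) • u + (-a⁻¹) • v := by module
    rw [e, this]; module
  · have e2 : T v (-a⁻¹) *ᵥ (v + a • u) = a • u := by
      rw [mulVec_add, mulVec_smul, Tv_v D H, Tv_u D H]
      have : a * -a⁻¹ = -1 := by field_simp
      have e : v + a • (u + (-a⁻¹) • v) = (1 + a * -a⁻¹) • v + a • u := by module
      rw [e, this]; module
    have e3 : T u a *ᵥ (a • u) = a • u := by rw [mulVec_smul, Tu_u D H]
    rw [← mulVec_mulVec, ← mulVec_mulVec, Tu_v D H, e2, e3]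

/-- torus elements -/
theorem torus {l : K} (hl : l ≠ 0) (hfix : D.σ l = l) :
    ∃ t ∈ TT D (Submodule.span K ({u, v} : Set (Fin n → K))),
      t *ᵥ u = l • u ∧ t *ᵥ v = l⁻¹ • v := by
  obtain ⟨s, hs0, hs⟩ := exists_skew D
  have h1 : D.σ (l * s) = -(l * s) := by rw [map_mul, hfix, hs]; ring
  have h2 : D.σ (-s) = -(-s) := by rw [map_neg, hs]
  obtain ⟨t1, ht1, ht1u, ht1v⟩ := wel D H (mul_ne_zero hl hs0) h1
  obtain ⟨t2, ht2, ht2u, ht2v⟩ := wel D H (neg_ne_zero.mpr hs0) h2
  refine ⟨t1 * t2, Submonoid.mul_mem _ ht1 ht2, ?_, ?_⟩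
  · rw [← mulVec_mulVec, ht2u, mulVec_smul, ht1v, smul_smul]
    congr 1
    field_simp
  · rw [← mulVec_mulVec, ht2v, mulVec_smul, ht1u, smul_smul]
    congr 1
    field_simp

/-- the diagonal element -/
def Dg (q : ℕ) (u v : Fin n → K) (l δ : K) : Matrix (Fin n) (Fin n) K :=
  1 + vecMulVec ((l - 1) • u) (cj (q := q) v) + vecMulVec ((δ - 1) • v) (cj (q := q) u)

omit D H in
theorem Dg_mulVec (l δ : K) (z : Fin n → K) :
    Dg q u v l δ *ᵥ z = z + ((l - 1) * h z v) • u + ((δ - 1) * h z u) • v := by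
  unfold Dg
  rw [add_mulVec, add_mulVec, one_mulVec, vmv_mulVec, vmv_mulVec, smul_smul, smul_smul,
    mul_comm (h z v), mul_comm (h z u)]

omit D in
theorem det_Dg (l δ : K) : (Dg q u v l δ).det = l * δ := by
  unfold Dg
  rw [det_one_add_two, cj_dot, cj_dot, cj_dot, cj_dot, h_smul_left, h_smul_left, h_smul_left,
    h_smul_left, H.huu, H.hvv, H.huv, H.hvu]
  ring

/-- the special unitary group of a hyperbolic plane is generated by transvections -/
theorem plane_gen {M : Matrix (Fin n) (Fin n) K} (hP : Pres (q := q) M) (hdet : M.det = 1)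
    (hfix : ∀ z, h z u = 0 → h z v = 0 → M *ᵥ z = z) :
    M ∈ TT D (Submodule.span K ({u, v} : Set (Fin n → K))) := by
  set P := Submodule.span K ({u, v} : Set (Fin n → K)) with hPdef
  have hTu : ∀ c, D.σ c = -c → T u c ∈ TT D P := fun c hc => T_mem_TT D (u_mem D H) H.huu hc
  have hTv : ∀ c, D.σ c = -c → T v c ∈ TT D P := fun c hc => T_mem_TT D (v_mem D H) H.hvv hc
  -- general facts for a form preserving matrix fixing the complement
  have key : ∀ M' : Matrix (Fin n) (Fin n) K, Pres (q := q) M' →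
      (∀ z, h z u = 0 → h z v = 0 → M' *ᵥ z = z) → ∀ y, (∀ z0, h z0 u = 0 → h z0 v = 0 → h y z0 = 0) →
      M' *ᵥ y = h (M' *ᵥ y) v • u + h (M' *ᵥ y) u • v := by
    intro M' hP' hfix' y hy
    apply in_plane D H
    intro z0 h1 h2
    have := hP' y z0
    rw [hfix' z0 h1 h2] at this
    rw [this, hy z0 h1 h2]
  have hu0 : ∀ z0, h z0 u = 0 → h z0 v = 0 → h u z0 = 0 := fun z0 h1 _ => h_symm_zero D h1
  have hv0 : ∀ z0, h z0 u = 0 → h z0 v = 0 → h v z0 = 0 := fun z0 _ h2 => h_symm_zero D h2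
  have normrel : ∀ a b : K, h (a • u + b • v) (a • u + b • v) = a * D.σ b + b * D.σ a := by
    intro a b
    simp only [h_add_left, h_smul_left, h_add_right D, h_smul_right D, H.huu, H.hvv, H.huv, H.hvu]
    ring
  have fixmul : ∀ t ∈ TT D P, ∀ M' : Matrix (Fin n) (Fin n) K,
      (∀ z, h z u = 0 → h z v = 0 → M' *ᵥ z = z) →
      (∀ z, h z u = 0 → h z v = 0 → (t * M') *ᵥ z = z) := by
    intro t ht M' hM' z h1 h2
    rw [← mulVec_mulVec, hM' z h1 h2]
    exact Gen_fix D (TT_le_Gen D P ht) z (perp_span_pair D h1 h2)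
  -- step 1
  obtain ⟨t1, ht1, l, ht1u⟩ : ∃ t ∈ TT D P, ∃ l : K, (t * M) *ᵥ u = l • u := by
    set α := h (M *ᵥ u) v with hα
    set β := h (M *ᵥ u) u with hβ
    have hMu : M *ᵥ u = α • u + β • v := key M hP hfix u hu0
    have hrel : α * D.σ β + β * D.σ α = 0 := by
      rw [← normrel, ← hMu, hP, H.huu]
    by_cases hβ0 : β = 0
    · refine ⟨1, Submonoid.one_mem _, α, ?_⟩
      rw [Matrix.one_mul, hMu, hβ0, zero_smul, add_zero]
    · have hσβ : D.σ β ≠ 0 := σ_ne_zero D hβ0
      set c := -α / β with hc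
      have hcs : D.σ c = -c := by
        rw [hc, map_div₀, map_neg]
        field_simp
        linear_combination (-1 : K) * hrel
      obtain ⟨s, hs0, hs⟩ := exists_skew D
      have hs' : D.σ (-s⁻¹) = -(-s⁻¹) := by
        rw [map_neg, map_inv₀, hs]; field_simp
      refine ⟨T v (-s⁻¹) * T u s * T u c, Submonoid.mul_mem _ (Submonoid.mul_mem _ (hTv _ hs')
        (hTu _ hs)) (hTu _ hcs), β * s, ?_⟩
      have e1 : T u c *ᵥ (M *ᵥ u) = β • v := by
        rw [hMu, mulVec_add, mulVec_smul, mulVec_smul, Tu_u D H, Tu_v D H]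
        have h0 : α + β * c = 0 := by rw [hc]; field_simp; ring
        have : α • u + β • (v + c • u) = (α + β * c) • u + β • v := by module
        rw [this, h0, zero_smul, zero_add]
      have e2 : T u s *ᵥ (β • v) = β • v + (β * s) • u := by
        rw [mulVec_smul, Tu_v D H]; module
      have e3 : T v (-s⁻¹) *ᵥ (β • v + (β * s) • u) = (β * s) • u := by
        rw [mulVec_add, mulVec_smul, mulVec_smul, Tv_v D H, Tv_u D H]
        have h0 : β + β * s * (-s⁻¹) = 0 := by field_simp; ring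
        have : β • v + (β * s) • (u + (-s⁻¹) • v) = (β * s) • u + (β + β * s * (-s⁻¹)) • v := by
          module
        rw [this, h0, zero_smul, add_zero]
      rw [← mulVec_mulVec, ← mulVec_mulVec, ← mulVec_mulVec, e1, e2, e3]
  set M1 := t1 * M with hM1
  have hP1 : Pres (q := q) M1 := (Gen_pres D (TT_le_Gen D P ht1)).mul hP
  have hfix1 : ∀ z, h z u = 0 → h z v = 0 → M1 *ᵥ z = z := fixmul t1 ht1 M hfix
  -- step 2
  obtain ⟨t2, ht2, δ, ht2u, ht2v⟩ : ∃ t ∈ TT D P, ∃ δ : K, (t * M1) *ᵥ u = l • u ∧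
      (t * M1) *ᵥ v = δ • v := by
    set γ := h (M1 *ᵥ v) v with hγ
    set δ := h (M1 *ᵥ v) u with hδ
    have hMv : M1 *ᵥ v = γ • u + δ • v := key M1 hP1 hfix1 v hv0
    have hrel : γ * D.σ δ + δ * D.σ γ = 0 := by
      rw [← normrel, ← hMv, hP1, H.hvv]
    have hpair : D.σ l * δ = 1 := by
      have := hP1 v u
      rw [ht1u, H.hvu, h_smul_right D, ← hδ] at this
      exact this
    have hδ0 : δ ≠ 0 := right_ne_zero_of_mul_eq_one hpair
    have hσδ : D.σ δ ≠ 0 := σ_ne_zero D hδ0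
    set c := -γ / δ with hc
    have hcs : D.σ c = -c := by
      rw [hc, map_div₀, map_neg]
      field_simp
      linear_combination (-1 : K) * hrel
    refine ⟨T u c, hTu c hcs, δ, ?_, ?_⟩
    · rw [← mulVec_mulVec, ht1u, mulVec_smul, Tu_u D H]
    · rw [← mulVec_mulVec, hMv, mulVec_add, mulVec_smul, mulVec_smul, Tu_u D H, Tu_v D H]
      have h0 : γ + δ * c = 0 := by rw [hc]; field_simp; ring
      have : γ • u + δ • (v + c • u) = (γ + δ * c) • u + δ • v := by module
      rw [this, h0, zero_smul, zero_add]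
  set M2 := t2 * M1 with hM2
  have hP2 : Pres (q := q) M2 := (Gen_pres D (TT_le_Gen D P ht2)).mul hP1
  have hfix2 : ∀ z, h z u = 0 → h z v = 0 → M2 *ᵥ z = z := fixmul t2 ht2 M1 hfix1
  have hdet2 : M2.det = 1 := by
    rw [hM2, hM1, det_mul, det_mul, Gen_det D (TT_le_Gen D P ht2), Gen_det D (TT_le_Gen D P ht1), hdet]; ring
  -- step 3
  have hpair : δ * D.σ l = 1 := by
    have := hP2 v u
    rw [ht2u, ht2v, H.hvu, h_smul_left, h_smul_right D, H.hvu] at this
    linear_combination this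
  have hM2eq : M2 = Dg q u v l δ := by
    apply ext_plane D H
    · intro z h1 h2
      rw [hfix2 z h1 h2, Dg_mulVec, h1, h2]; module
    · rw [ht2u, Dg_mulVec, H.huv, H.huu]; module
    · rw [ht2v, Dg_mulVec, H.hvv, H.hvu]; module
  have hlδ : l * δ = 1 := by rw [← det_Dg H l δ, ← hM2eq, hdet2]
  have hδ0 : δ ≠ 0 := right_ne_zero_of_mul_eq_one hlδ
  have hl0 : l ≠ 0 := left_ne_zero_of_mul_eq_one hlδ
  have hlfix : D.σ l = l := by
    have : δ * (D.σ l - l) = 0 := by linear_combination hpair - hlδ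
    rcases mul_eq_zero.mp this with h1 | h1
    · exact absurd h1 hδ0
    · exact sub_eq_zero.mp h1
  have hδl : δ = l⁻¹ := eq_inv_of_mul_eq_one_right hlδ
  obtain ⟨t4, ht4, ht4u, ht4v⟩ := torus D H hl0 hlfix
  have hM2mem : M2 ∈ TT D P := by
    have : M2 = t4 := by
      apply ext_plane D H
      · intro z h1 h2
        rw [hfix2 z h1 h2, Gen_fix D (TT_le_Gen D P ht4) z (perp_span_pair D h1 h2)]
      · rw [ht2u, ht4u]
      · rw [ht2v, ht4v, hδl]
    rw [this]; exact ht4
  obtain ⟨t1', ht1', h11, -⟩ := TT_inv D ht1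
  obtain ⟨t2', ht2', h22, -⟩ := TT_inv D ht2
  have : M = t1' * (t2' * M2) := by
    rw [hM2, ← Matrix.mul_assoc t2', h22, Matrix.one_mul, hM1, ← Matrix.mul_assoc, h11,
      Matrix.one_mul]
  rw [this]
  exact Submonoid.mul_mem _ ht1' (Submonoid.mul_mem _ ht2' hM2mem)

end plane

/-- a determinant one isometry fixing the orthogonal complement of an anisotropic vector is trivial -/
theorem eq_one_of_fix_hyperplane {M : Matrix (Fin n) (Fin n) K} (hP : Pres (q := q) M)
    (hdet : M.det = 1) {w : Fin n → K} (hw : h w w ≠ 0) (hfix : ∀ z, h z w = 0 → M *ᵥ z = z) :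
    M = 1 := by
  set N0 := h w w with hN0
  have hdec : ∀ y : Fin n → K, ∃ y0, h y0 w = 0 ∧ y = y0 + (h y w / N0) • w := by
    intro y
    refine ⟨y - (h y w / N0) • w, ?_, by module⟩
    rw [h_sub_left, h_smul_left, ← hN0, div_mul_cancel₀ _ hw, sub_self]
  set μ := h (M *ᵥ w) w / N0 with hμ
  have hMw : M *ᵥ w = μ • w := by
    have hr : M *ᵥ w - μ • w = 0 := by
      apply h_nondeg D
      intro y
      obtain ⟨y0, hy0, hy⟩ := hdec y
      have h1 : h (M *ᵥ w) y0 = 0 := by
        have := hP w y0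
        rw [hfix y0 hy0] at this
        rw [this]; exact h_symm_zero D hy0
      have h2 : h (M *ᵥ w - μ • w) w = 0 := by
        rw [h_sub_left, h_smul_left, ← hN0, hμ, div_mul_cancel₀ _ hw, sub_self]
      rw [hy, h_add_right D, h_smul_right D, h2, mul_zero, add_zero, h_sub_left, h_smul_left, h1,
        h_symm_zero D hy0]
      ring
    exact sub_eq_zero.mp hr
  have hMT : M = T w ((μ - 1) / N0) := by
    apply mat_ext
    intro z
    obtain ⟨z0, hz0, hz⟩ := hdec z
    rw [T_mulVec]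
    conv_lhs => rw [hz, mulVec_add, mulVec_smul, hfix z0 hz0, hMw]
    have e : (μ - 1) / N0 * h z w = (μ - 1) * (h z w / N0) := by ring
    rw [e]
    conv_rhs => rw [hz]
    have e2 : h (z0 + (h z w / N0) • w) w / N0 = h z w / N0 := by
      rw [← hz]
    rw [e2]
    module
  have hμ1 : μ = 1 := by
    have := hdet
    rw [hMT, det_T', ← hN0, div_mul_cancel₀ _ hw] at this
    linear_combination this
  rw [hMT, hμ1, sub_self, zero_div]
  exact Cfsg.Agent.S0781.T_zero_coeff w

end Cfsg.Agent.Helper2.SUGen
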