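import Mathlib
import Cfsg.Agent.Helper2.SU.Plane

/-! `SU_n(q)` is generated by Siegel elements, and by unitary transvections. -/

set_option autoImplicit false

namespace Cfsg.Agent.Helper2.SUGen

open Matrix Module Cfsg.Agent.S2644 Cfsg.Agent.Helper28 Cfsg.Agent.Helper28.HermFrame

variable {K : Type*} [Field K] {q n : ℕ}

local notation "h" => Cfsg.hermForm n K q
local notation "T" => Cfsg.unitaryTransvection n q

variable (D : Frob K q)

include D

theorem nonDeg_top : NonDeg q (⊤ : Submodule K (Fin n → K)) :=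
  fun _ _ hall => h_nondeg D (fun y' => hall y' trivial)

theorem perpL_bot : perpL q (⊥ : Submodule K (Fin n → K)) = ⊤ := by
  ext y
  simp only [Submodule.mem_top, iff_true]
  intro x hx
  rw [(Submodule.mem_bot K).mp hx, h_zero_right D]

/-- the main induction: isometries of determinant one fixing `X` pointwise are products of Siegel
elements of `X^⊥` -/
theorem main [Finite K] : ∀ (d : ℕ) (X : Submodule K (Fin n → K)), NonDeg q (perpL q X) →
    finrank K (perpL q X) = d → ∀ M : Matrix (Fin n) (Fin n) K, Pres (q := q) M → M.det = 1 →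
    (∀ z ∈ X, M *ᵥ z = z) → M ∈ Gen D (perpL q X) := by
  intro d
  induction d using Nat.strong_induction_on with
  | _ d ih =>
  intro X hY hd M hP hdet hfix
  have hfixY : ∀ z, (∀ y ∈ perpL q X, h z y = 0) → M *ᵥ z = z := by
    intro z hz
    apply hfix
    rw [← perpL_perpL D X]
    exact hz
  rcases Nat.lt_or_ge d 2 with hd2 | hd2
  · have hM1 : M = 1 := by
      rcases Nat.eq_zero_or_pos d with h0 | h0
      · apply mat_ext
        intro z
        rw [one_mulVec]
        apply hfixY
        intro y hy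
        have hbot : perpL q X = ⊥ := Submodule.finrank_eq_zero.mp (by rw [hd, h0])
        rw [hbot] at hy
        rw [(Submodule.mem_bot K).mp hy, h_zero_right D]
      · have hd1 : finrank K (perpL q X) = 1 := by omega
        obtain ⟨w, hw0, hwspan⟩ := finrank_eq_one_iff'.mp hd1
        have hwne : (w : Fin n → K) ≠ 0 := fun h0 => hw0 (Subtype.ext h0)
        have hspan : ∀ y ∈ perpL q X, ∃ c : K, y = c • (w : Fin n → K) := by
          intro y hy
          obtain ⟨c, hc⟩ := hwspan ⟨y, hy⟩
          exact ⟨c, by rw [← Submodule.coe_smul, hc]⟩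
        have hN : h (w : Fin n → K) w ≠ 0 := by
          intro hN0
          apply hwne
          apply hY w w.2
          intro y' hy'
          obtain ⟨c, rfl⟩ := hspan y' hy'
          rw [h_smul_right D, hN0, mul_zero]
        apply eq_one_of_fix_hyperplane D hP hdet hN
        intro z hz
        apply hfixY
        intro y hy
        obtain ⟨c, rfl⟩ := hspan y hy
        rw [h_smul_right D, hz, mul_zero]
    rw [hM1]
    exact Submonoid.one_mem _
  · obtain ⟨u, hu, v, hv, hu0, huu, hvv, huv, hvu⟩ := exists_hyp_pair D hY (by omega)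
    have H : HypPair q u v := ⟨huu, hvv, huv, hvu⟩
    rcases Nat.lt_or_ge d 3 with hd3 | hd3
    · have hli : LinearIndependent K ![u, v] := by
        rw [LinearIndependent.pair_iff]
        intro s t hst
        have h1 : h (s • u + t • v) v = 0 := by rw [hst, h_zero_left]
        have h2 : h (s • u + t • v) u = 0 := by rw [hst, h_zero_left]
        rw [h_add_left, h_smul_left, h_smul_left, huv, hvv] at h1
        rw [h_add_left, h_smul_left, h_smul_left, huu, hvu] at h2
        exact ⟨by linear_combination h1, by linear_combination h2⟩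
      have hrange : Set.range ![u, v] = {u, v} := by
        simp
        exact Set.pair_comm v u
      have hfr : finrank K (Submodule.span K ({u, v} : Set (Fin n → K))) = 2 := by
        rw [← hrange, finrank_span_eq_card hli, Fintype.card_fin]
      have hle : Submodule.span K ({u, v} : Set (Fin n → K)) ≤ perpL q X := by
        rw [Submodule.span_le]
        intro y hy
        rcases hy with rfl | rfl
        · exact hu
        · exact hv
      have hspan : Submodule.span K ({u, v} : Set (Fin n → K)) = perpL q X :=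
        Submodule.eq_of_le_of_finrank_le hle (by rw [hfr]; omega)
      have := plane_gen D H hP hdet (fun z h1 h2 => hfixY z (by
        rw [← hspan]; exact perp_span_pair D h1 h2))
      exact Gen_mono D hle (TT_le_Gen D _ this)
    · have hMY : ∀ y ∈ perpL q X, M *ᵥ y ∈ perpL q X := by
        intro y hy x hx
        have := hP y x
        rw [hfix x hx] at this
        rw [this]; exact hy x hx
      obtain ⟨t, ht, htu, htv⟩ := trans_pair D hY (by omega) (hMY u hu) (hMY v hv) hu hv
        (by rw [hP]; exact huu) (by rw [hP]; exact hvv) (by rw [hP]; exact hvu) huu hvv hvu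
      have hP' : Pres (q := q) (t * M) := (Gen_pres D ht).mul hP
      have hdet' : (t * M).det = 1 := by rw [det_mul, Gen_det D ht, hdet, one_mul]
      have hfix' : ∀ z ∈ X ⊔ Submodule.span K ({u, v} : Set (Fin n → K)), (t * M) *ᵥ z = z := by
        intro z hz
        obtain ⟨x1, hx1, x2, hx2, rfl⟩ := Submodule.mem_sup.mp hz
        obtain ⟨a, b, rfl⟩ := Submodule.mem_span_pair.mp hx2
        have e1 : (t * M) *ᵥ x1 = x1 := by
          rw [← mulVec_mulVec, hfix x1 hx1]
          exact Gen_fix D ht x1 (fun y hy => h_symm_zero D (hy x1 hx1))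
        have e2 : (t * M) *ᵥ u = u := by rw [← mulVec_mulVec]; exact htu
        have e3 : (t * M) *ᵥ v = v := by rw [← mulVec_mulVec]; exact htv
        rw [mulVec_add, mulVec_add, mulVec_smul, mulVec_smul, e1, e2, e3]
      have hY' := nonDeg_cut D hY hu hv huu hvv huv hvu
      have hlt := finrank_cut_lt D X hu huv
      have hmem := ih _ (by rw [← hd]; exact hlt) _ hY' rfl (t * M) hP' hdet' hfix'
      have hM'mem : t * M ∈ Gen D (perpL q X) := Gen_mono D (perpL_anti le_sup_left) hmem
      obtain ⟨t', ht', h1, -⟩ := Gen_inv D ht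
      have : M = t' * (t * M) := by rw [← Matrix.mul_assoc, h1, Matrix.one_mul]
      rw [this]
      exact Submonoid.mul_mem _ ht' hM'mem

/-! ### Siegel elements are products of transvections -/

theorem Sg_iso_mem (x w : Fin n → K) (hxx : h x x = 0) (hww : h w w = 0) (hwx : h w x = 0) :
    Sg (q := q) x w 0 ∈ TT D (⊤ : Submodule K (Fin n → K)) := by
  obtain ⟨s, hs0, hs⟩ := exists_skew D
  set w0 := s⁻¹ • w with hw0
  have hw : w = s • w0 := by rw [hw0, smul_smul, mul_inv_cancel₀ hs0, one_smul]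
  have h00 : h w0 w0 = 0 := by rw [hw0, h_smul_left, h_smul_right D, hww, mul_zero, mul_zero]
  have h0x : h w0 x = 0 := by rw [hw0, h_smul_left, hwx, mul_zero]
  have hx0 : h x w0 = 0 := h_symm_zero D h0x
  have hs' : D.σ (-s) = -(-s) := by rw [map_neg, hs]
  have hiso : h (x + w0) (x + w0) = 0 := by
    rw [h_add_left, h_add_right D, h_add_right D, hxx, h00, h0x, hx0]; ring
  have heq : Sg (q := q) x w 0 = T (x + w0) s * T x (-s) * T w0 (-s) := by
    apply mat_ext
    intro z
    rw [← mulVec_mulVec, ← mulVec_mulVec, Sg_mulVec, hw]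
    simp only [T_mulVec, h_add_left, h_smul_left, h_add_right D, h_smul_right D, hxx, h00, h0x, hx0,
      hs]
    module
  rw [heq]
  exact Submonoid.mul_mem _ (Submonoid.mul_mem _ (T_mem_TT D Submodule.mem_top hiso hs)
    (T_mem_TT D Submodule.mem_top hxx hs')) (T_mem_TT D Submodule.mem_top h00 hs')

theorem exists_aniso_of_pair {Z : Submodule K (Fin n → K)} {z z' : Fin n → K} (hz : z ∈ Z)
    (hz' : z' ∈ Z) (hzz : h z z' ≠ 0) : ∃ y ∈ Z, h y y ≠ 0 := by
  by_cases h1 : h z z = 0
  · by_cases h2 : h z' z' = 0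
    · set β := h z z' with hβ
      obtain ⟨t, ht⟩ := exists_trace_ne D
      have hσβ : D.σ β ≠ 0 := σ_ne_zero D hzz
      have h31 : h z' z = D.σ β := (h_conj D z' z).symm
      have e1 : D.σ (t / D.σ β) * β = D.σ t := by
        rw [map_div₀, D.invol, div_mul_cancel₀ _ hzz]
      have e2 : t / D.σ β * D.σ β = t := div_mul_cancel₀ _ hσβ
      refine ⟨z + (t / D.σ β) • z', Z.add_mem hz (Z.smul_mem _ hz'), ?_⟩
      rw [h_self_add_smul D, h1, h2, h31, e1, e2, mul_zero, add_zero, zero_add, add_comm]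
      exact ht
    · exact ⟨z', hz', h2⟩
  · exact ⟨z, hz, h1⟩

theorem exists_aniso_perp_pair (hn : 4 ≤ n) (x w : Fin n → K) (hwx : h w x = 0)
    (hN : h w w ≠ 0) : ∃ w', h w' x = 0 ∧ h w' w = 0 ∧ h w' w' ≠ 0 := by
  classical
  set S := Submodule.span K ({x, w} : Set (Fin n → K)) with hS
  set P := perpL q S with hPdef
  have hxS : x ∈ S := Submodule.subset_span (by simp)
  have hwS : w ∈ S := Submodule.subset_span (by simp)
  have hfrS : finrank K S ≤ 2 := by
    have := finrank_span_finset_le_card (R := K) ({x, w} : Finset (Fin n → K))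
    have h3 : ({x, w} : Finset (Fin n → K)).card ≤ 2 := Finset.card_le_two
    rw [Finset.coe_insert, Finset.coe_singleton] at this
    exact le_trans this h3
  have hfrP : 2 ≤ finrank K P := by
    have : finrank K P + finrank K S = n := finrank_perpL D S
    omega
  obtain ⟨z, hz, z', hz', hzz⟩ : ∃ z ∈ P, ∃ z' ∈ P, h z z' ≠ 0 := by
    by_contra hcon
    push Not at hcon
    have hle : P ≤ Submodule.span K {x} := by
      intro p hp
      have hpS : p ∈ S := by
        rw [← perpL_perpL D S]
        intro y hy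
        exact hcon p hp y hy
      obtain ⟨a, b, rfl⟩ := Submodule.mem_span_pair.mp hpS
      have h1 := hp w hwS
      rw [h_add_left, h_smul_left, h_smul_left, h_symm_zero D hwx, mul_zero, zero_add] at h1
      have hb : b = 0 := by
        rcases mul_eq_zero.mp h1 with h2 | h2
        · exact h2
        · exact absurd h2 hN
      rw [hb, zero_smul, add_zero]
      exact Submodule.smul_mem _ _ (Submodule.subset_span rfl)
    have h1 := Submodule.finrank_mono hle
    have h2 : finrank K (Submodule.span K ({x} : Set (Fin n → K))) ≤ 1 := by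
      have := finrank_span_finset_le_card (R := K) ({x} : Finset (Fin n → K))
      rw [Finset.coe_singleton, Finset.card_singleton] at this
      exact this
    omega
  obtain ⟨y, hy, hyy⟩ := exists_aniso_of_pair D hz hz' hzz
  exact ⟨y, hy x hxS, hy w hwS, hyy⟩

theorem exists_sum_iso [Finite K] (hn : 4 ≤ n) (x w : Fin n → K) (hwx : h w x = 0) :
    ∃ w1 w2, w = w1 + w2 ∧ h w1 w1 = 0 ∧ h w2 w2 = 0 ∧ h w1 x = 0 ∧ h w2 x = 0 := by
  by_cases hN : h w w = 0
  · exact ⟨w, 0, (add_zero w).symm, hN, h_zero_left 0, hwx, h_zero_left x⟩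
  · obtain ⟨w', hw'x, hw'w, hN'⟩ := exists_aniso_perp_pair D hn x w hwx hN
    have hww' : h w w' = 0 := h_symm_zero D hw'w
    have hfix : D.σ (-(h w w) / h w' w') = -(h w w) / h w' w' := by
      rw [map_div₀, map_neg, h_self_fix D, h_self_fix D]
    obtain ⟨l1, hl1⟩ := exists_norm D (-(h w w) / h w' w') (div_ne_zero (neg_ne_zero.mpr hN) hN') hfix
    obtain ⟨ζ, hζ1, hζ⟩ := exists_norm_one_ne D
    have hl10 : l1 ≠ 0 := by
      rintro rfl
      rw [zero_mul] at hl1
      exact (div_ne_zero (neg_ne_zero.mpr hN) hN') hl1.symm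
    set l2 := ζ * l1 with hl2def
    have hl2 : l2 * D.σ l2 = -(h w w) / h w' w' := by
      rw [hl2def, map_mul, ← hl1]
      linear_combination (l1 * D.σ l1) * hζ
    have hiso : ∀ l : K, l * D.σ l = -(h w w) / h w' w' → h (w + l • w') (w + l • w') = 0 := by
      intro l hl
      rw [h_self_add_smul D, hww', hw'w, hl, div_mul_cancel₀ _ hN']
      ring
    have hperp : ∀ l : K, h (w + l • w') x = 0 := by
      intro l
      rw [h_add_left, h_smul_left, hwx, hw'x]; ring
    have hδ : l1 - l2 ≠ 0 := by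
      intro h0
      apply hζ1
      have : l1 * (1 - ζ) = 0 := by rw [hl2def] at h0; linear_combination h0
      rcases mul_eq_zero.mp this with h1 | h1
      · exact absurd h1 hl10
      · linear_combination -h1
    set c1 := -l2 / (l1 - l2) with hc1
    set c2 := l1 / (l1 - l2) with hc2
    have hsum : c1 + c2 = 1 := by rw [hc1, hc2]; field_simp; ring
    have hzero : c1 * l1 + c2 * l2 = 0 := by rw [hc1, hc2]; field_simp; ring
    refine ⟨c1 • (w + l1 • w'), c2 • (w + l2 • w'), ?_, ?_, ?_, ?_, ?_⟩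
    · have : c1 • (w + l1 • w') + c2 • (w + l2 • w') = (c1 + c2) • w + (c1 * l1 + c2 * l2) • w' := by
        module
      rw [this, hsum, hzero, one_smul, zero_smul, add_zero]
    · rw [h_smul_left, h_smul_right D, hiso l1 hl1, mul_zero, mul_zero]
    · rw [h_smul_left, h_smul_right D, hiso l2 hl2, mul_zero, mul_zero]
    · rw [h_smul_left, hperp, mul_zero]
    · rw [h_smul_left, hperp, mul_zero]

theorem Sg_mem_of_four [Finite K] (hn : 4 ≤ n) (x w : Fin n → K) (c : K) (hxx : h x x = 0)
    (hwx : h w x = 0) (hc : c + D.σ c + h w w = 0) :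
    Sg (q := q) x w c ∈ TT D (⊤ : Submodule K (Fin n → K)) := by
  obtain ⟨w1, w2, hw, h11, h22, h1x, h2x⟩ := exists_sum_iso D hn x w hwx
  have hm1 := Sg_iso_mem D x w1 hxx h11 h1x
  have hm2 := Sg_iso_mem D x w2 hxx h22 h2x
  have e1 : Sg (q := q) x w1 0 * Sg (q := q) x w2 0 = Sg (q := q) x w (-(h w2 w1)) := by
    rw [Sg_mul D x w1 w2 0 0 hxx h1x h2x, ← hw]
    congr 1
    ring
  set c0 := -(h w2 w1) with hc0
  have hσc0 : D.σ c0 = -(h w1 w2) := by rw [hc0, map_neg, h_conj D]
  have hNw : h w w = h w1 w2 + h w2 w1 := by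
    rw [hw, h_add_left, h_add_right D, h_add_right D, h11, h22]; ring
  have hskew : D.σ (c - c0) = -(c - c0) := by
    rw [map_sub, hσc0, hc0]
    linear_combination hc - hNw
  have e2 : Sg (q := q) x w c = T x (c - c0) * Sg (q := q) x w c0 := by
    rw [← Sg_zero D x (c - c0), Sg_mul D x 0 w (c - c0) c0 hxx (h_zero_left x) hwx, zero_add,
      h_zero_right D]
    congr 1
    ring
  rw [e2, ← e1]
  exact Submonoid.mul_mem _ (T_mem_TT D Submodule.mem_top hxx hskew) (Submonoid.mul_mem _ hm1 hm2)

/-! ### the torus trick -/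

theorem exists_fixed_ne [Fintype K] (hK : Fintype.card K = q ^ 2) (hq : 2 < q) :
    ∃ l : K, l ≠ 0 ∧ l ≠ 1 ∧ D.σ l = l := by
  classical
  obtain ⟨ζ, hζ⟩ := IsCyclic.exists_ofOrder_eq_natCard (α := Kˣ)
  have hcardU : Nat.card Kˣ = q ^ 2 - 1 := by
    rw [Nat.card_eq_fintype_card, Fintype.card_units, hK]
  have hlt : q + 1 < orderOf ζ := by
    rw [hζ, hcardU]
    have : q * 3 ≤ q * q := Nat.mul_le_mul_left q hq
    have h2 : q ^ 2 = q * q := sq q
    omega
  have hne : ζ ^ (q + 1) ≠ 1 := pow_ne_one_of_lt_orderOf (Nat.succ_ne_zero q) hlt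
  refine ⟨(ζ : K) ^ (q + 1), pow_ne_zero _ (Units.ne_zero ζ), ?_, ?_⟩
  · intro h1
    apply hne
    apply Units.ext
    rw [Units.val_pow_eq_pow_val, h1, Units.val_one]
  · rw [D.pow, ← pow_mul]
    have h1 : (ζ : K) ^ (q ^ 2) = ζ := by
      rw [← hK]; exact FiniteField.pow_card _
    have h2 : (q + 1) * q = q ^ 2 + q := by ring
    rw [h2, pow_add, h1, pow_succ']

theorem TT_conj {A A' : Matrix (Fin n) (Fin n) K} (hA : Pres (q := q) A) (h1 : A * A' = 1)
    (h2 : A' * A = 1) {M : Matrix (Fin n) (Fin n) K}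
    (hM : M ∈ TT D (⊤ : Submodule K (Fin n → K))) :
    A * M * A' ∈ TT D (⊤ : Submodule K (Fin n → K)) := by
  induction hM using Submonoid.closure_induction with
  | mem M hM =>
    obtain ⟨x, c, -, hxx, hc, rfl⟩ := hM
    rw [T_conj A hA x c, Matrix.mul_assoc, h1, Matrix.mul_one]
    exact T_mem_TT D Submodule.mem_top (by rw [hA, hxx]) hc
  | one => rw [Matrix.mul_one, h1]; exact Submonoid.one_mem _
  | mul B C _ _ hB hC =>
    have : A * (B * C) * A' = (A * B * A') * (A * C * A') := by
      rw [Matrix.mul_assoc (A * B) A', ← Matrix.mul_assoc A' (A * C), ← Matrix.mul_assoc A' A, h2,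
        Matrix.one_mul]
      simp only [Matrix.mul_assoc]
    rw [this]
    exact Submonoid.mul_mem _ hB hC

theorem Sg_smul_fix {l : K} (hfix : D.σ l = l) (x w : Fin n → K) (c : K) :
    Sg (q := q) (l • x) w c = Sg (q := q) x (l • w) (l * l * c) := by
  apply mat_ext
  intro z
  rw [Sg_mulVec, Sg_mulVec, h_smul_right D, h_smul_right D, hfix]
  module

theorem Sg_self (x : Fin n → K) (a c : K) :
    Sg (q := q) x (a • x) c = T x (a - D.σ a + c) := by
  apply mat_ext
  intro z
  rw [Sg_mulVec, T_mulVec, h_smul_right D]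
  module

theorem Sg_mem_of_torus [Finite K] {l : K} (hl0 : l ≠ 0) (hl1 : l ≠ 1) (hfix : D.σ l = l)
    (x w : Fin n → K) (c : K) (hxx : h x x = 0) (hwx : h w x = 0) (hc : c + D.σ c + h w w = 0) :
    Sg (q := q) x w c ∈ TT D (⊤ : Submodule K (Fin n → K)) := by
  by_cases hx0 : x = 0
  · have : Sg (q := q) x w c = 1 := by
      apply mat_ext
      intro z
      rw [Sg_mulVec, hx0, h_zero_right D, one_mulVec]
      module
    rw [this]; exact Submonoid.one_mem _
  obtain ⟨v, -, hvv, hxv, hvx⟩ := exists_partner D (nonDeg_top D) (Submodule.mem_top) hx0 hxx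
  have H : HypPair q x v := ⟨hxx, hvv, hxv, hvx⟩
  set α := h w v with hα
  set w0 := w - α • x with hw0
  have hw0x : h w0 x = 0 := by rw [hw0, h_sub_left, h_smul_left, hwx, hxx]; ring
  have hw0v : h w0 v = 0 := by rw [hw0, h_sub_left, h_smul_left, hxv]; ring
  have hl1' : l - 1 ≠ 0 := sub_ne_zero.mpr hl1
  set w1 := (l - 1)⁻¹ • w0 with hw1
  have hw1x : h w1 x = 0 := by rw [hw1, h_smul_left, hw0x, mul_zero]
  have hw1v : h w1 v = 0 := by rw [hw1, h_smul_left, hw0v, mul_zero]
  have hw01 : w0 = (l - 1) • w1 := by rw [hw1, smul_smul, mul_inv_cancel₀ hl1', one_smul]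
  obtain ⟨c1, hc1⟩ := exists_trace D (-(h w1 w1)) (by rw [map_neg, h_self_fix D])
  have cond1 : c1 + D.σ c1 + h w1 w1 = 0 := by linear_combination hc1
  have hPA : Pres (q := q) (Sg (q := q) x w1 c1) := Sg_pres D x w1 c1 hxx hw1x cond1
  obtain ⟨hAA', hA'A⟩ := Sg_inv D x w1 c1 hxx hw1x cond1
  obtain ⟨t, ht, htx, htv⟩ := torus D H hl0 hfix
  obtain ⟨t', ht', ht't, htt'⟩ := TT_inv D ht
  have htT : t ∈ TT D (⊤ : Submodule K (Fin n → K)) := TT_mono D le_top ht
  have ht'T : t' ∈ TT D (⊤ : Submodule K (Fin n → K)) := TT_mono D le_top ht'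
  have hPt : Pres (q := q) t := Gen_pres D (TT_le_Gen D _ ht)
  have htw1 : t *ᵥ w1 = w1 :=
    Gen_fix D (TT_le_Gen D _ ht) w1 (perp_span_pair D hw1x hw1v)
  have key0 := TT_conj D hPA hAA' hA'A ht'T
  have key1 : t * (Sg (q := q) x w1 c1 * t' * Sg (q := q) x (-w1) (D.σ c1)) ∈
      TT D (⊤ : Submodule K (Fin n → K)) := Submonoid.mul_mem _ htT key0
  have hnx : h (-w1) x = 0 := by rw [h_neg_left, hw1x, neg_zero]
  have hlx : h (l • w1) x = 0 := by rw [h_smul_left, hw1x, mul_zero]
  set c3 := l * l * c1 + D.σ c1 - h (-w1) (l • w1) with hc3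
  have e1 : t * (Sg (q := q) x w1 c1 * t' * Sg (q := q) x (-w1) (D.σ c1)) = Sg (q := q) x w0 c3 := by
    rw [← Matrix.mul_assoc, ← Matrix.mul_assoc, Sg_conj D t hPt x w1 c1, htx, htw1,
      Matrix.mul_assoc (Sg (q := q) (l • x) w1 c1) t t', htt', Matrix.mul_one, Sg_smul_fix D hfix,
      Sg_mul D x (l • w1) (-w1) (l * l * c1) (D.σ c1) hxx hlx hnx, hw01]
    congr 1
    module
  rw [e1] at key1
  have hN1 : h (-w1) (l • w1) = -(l * h w1 w1) := by
    rw [h_neg_left, h_smul_right D, hfix]
  have hN0 : h w0 w0 = (l - 1) * (l - 1) * h w1 w1 := by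
    rw [hw01, h_smul_left, h_smul_right D, map_sub, hfix, map_one]; ring
  have hNw : h w w = h w0 w0 := by
    have : w = w0 + α • x := by rw [hw0]; module
    conv_lhs => rw [this]
    rw [h_self_add_smul D, hw0x, h_symm_zero D hw0x, hxx]; ring
  have hσc3 : D.σ c3 = l * l * D.σ c1 + c1 + l * h w1 w1 := by
    rw [hc3, hN1, map_sub, map_add, map_mul, map_mul, hfix, D.invol, map_neg, map_mul, hfix,
      h_self_fix D]
    ring
  have hskew : D.σ (α - D.σ α + (c - c3)) = -(α - D.σ α + (c - c3)) := by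
    rw [map_add, map_sub, map_sub, D.invol, hσc3, hc3, hN1]
    linear_combination hc - hNw - hN0 - (l * l + 1) * cond1
  have e2 : Sg (q := q) x w c = T x (α - D.σ α + (c - c3)) * Sg (q := q) x w0 c3 := by
    rw [← Sg_self D x α (c - c3), Sg_mul D x (α • x) w0 (c - c3) c3 hxx
      (by rw [h_smul_left, hxx, mul_zero]) hw0x, h_smul_right D, hw0x, mul_zero]
    have : α • x + w0 = w := by rw [hw0]; module
    rw [this]
    congr 1
    ring
  rw [e2]
  exact Submonoid.mul_mem _ (T_mem_TT D Submodule.mem_top hxx hskew) key1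

/-- `SU_n(q)` is generated by unitary transvections -/
theorem SU_le_TT [Fintype K] (hK : Fintype.card K = q ^ 2) (hn : 3 ≤ n) (h32 : ¬ (n = 3 ∧ q = 2))
    {M : Matrix (Fin n) (Fin n) K} (hP : Pres (q := q) M) (hdet : M.det = 1) :
    M ∈ TT D (⊤ : Submodule K (Fin n → K)) := by
  have hY : NonDeg q (perpL q (⊥ : Submodule K (Fin n → K))) := by
    rw [perpL_bot D]; exact nonDeg_top D
  have h1 := main D _ ⊥ hY rfl M hP hdet (by
    intro z hz
    rw [(Submodule.mem_bot K).mp hz, mulVec_zero])
  rw [perpL_bot D] at h1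
  have hle : Gen D (⊤ : Submodule K (Fin n → K)) ≤ TT D ⊤ := by
    apply Submonoid.closure_le.mpr
    rintro M' ⟨x, w, c, -, -, hxx, hwx, hc, rfl⟩
    rcases Nat.lt_or_ge n 4 with h4 | h4
    · have hn3 : n = 3 := by omega
      have hq2 : 2 ≤ q := by
        have h1 : 1 < Fintype.card K := Fintype.one_lt_card
        rw [hK] at h1
        by_contra hlt
        push Not at hlt
        interval_cases q <;> simp at h1
      have hq : 2 < q := by
        rcases Nat.lt_or_ge 2 q with hh | hh
        · exact hh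
        · exact absurd ⟨hn3, by omega⟩ h32
      obtain ⟨l, hl0, hl1, hfix⟩ := exists_fixed_ne D hK hq
      exact Sg_mem_of_torus D hl0 hl1 hfix x w c hxx hwx hc
    · exact Sg_mem_of_four D h4 x w c hxx hwx hc
  exact hle h1

end Cfsg.Agent.Helper2.SUGen
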