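import Mathlib
import Cfsg.Agent.Helper2.SU.Main
import Cfsg.Agent.S0780

/-! Simplicity of `PSU_n(q)` by Iwasawa's argument. -/

set_option autoImplicit false

namespace Cfsg.Agent.Helper2.SUGen

open Matrix Module Cfsg.Agent.S2644 Cfsg.Agent.Helper28

variable {K : Type*} [Field K] {q n : ℕ}

local notation "h" => Cfsg.hermForm n K q
local notation "T" => Cfsg.unitaryTransvection n q
local notation "tm" => Cfsg.Agent.S2644.toM K n q

theorem tm_inv_mulVec (g : ↥(Cfsg.SU n K q)) (x : Fin n → K) : tm g⁻¹ *ᵥ (tm g *ᵥ x) = x := by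
  rw [mulVec_mulVec, ← map_mul, inv_mul_cancel, map_one, one_mulVec]

theorem tm_mulVec_inv (g : ↥(Cfsg.SU n K q)) (x : Fin n → K) : tm g *ᵥ (tm g⁻¹ *ᵥ x) = x := by
  rw [mulVec_mulVec, ← map_mul, mul_inv_cancel, map_one, one_mulVec]

/-- `N`-equivalence of projective points -/
def Rel (N : Subgroup ↥(Cfsg.SU n K q)) (v w : Fin n → K) : Prop :=
  ∃ g ∈ N, ∃ a : K, a ≠ 0 ∧ Cfsg.Agent.S2644.toM K n q g *ᵥ v = a • w

theorem Rel.refl (N : Subgroup ↥(Cfsg.SU n K q)) (v : Fin n → K) : Rel N v v :=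
  ⟨1, N.one_mem, 1, one_ne_zero, by rw [map_one, one_mulVec, one_smul]⟩

theorem Rel.symm {N : Subgroup ↥(Cfsg.SU n K q)} {v w : Fin n → K} (hr : Rel N v w) : Rel N w v := by
  obtain ⟨g, hg, a, ha, hgv⟩ := hr
  refine ⟨g⁻¹, N.inv_mem hg, a⁻¹, inv_ne_zero ha, ?_⟩
  have h1 := tm_inv_mulVec g v
  rw [hgv, mulVec_smul] at h1
  rw [← h1, smul_smul, inv_mul_cancel₀ ha, one_smul]

theorem Rel.trans {N : Subgroup ↥(Cfsg.SU n K q)} {u v w : Fin n → K} (hr : Rel N u v)
    (hr' : Rel N v w) : Rel N u w := by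
  obtain ⟨g, hg, a, ha, hgv⟩ := hr
  obtain ⟨g', hg', a', ha', hgv'⟩ := hr'
  refine ⟨g' * g, N.mul_mem hg' hg, a * a', mul_ne_zero ha ha', ?_⟩
  rw [map_mul, ← mulVec_mulVec, hgv, mulVec_smul, hgv', smul_smul]

theorem Rel.smul_right {N : Subgroup ↥(Cfsg.SU n K q)} {v w : Fin n → K} (hr : Rel N v w)
    {b : K} (hb : b ≠ 0) : Rel N v (b • w) := by
  obtain ⟨g, hg, a, ha, hgv⟩ := hr
  refine ⟨g, hg, a * b⁻¹, mul_ne_zero ha (inv_ne_zero hb), ?_⟩
  rw [hgv, smul_smul, mul_assoc, inv_mul_cancel₀ hb, mul_one]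

theorem Rel.map {N : Subgroup ↥(Cfsg.SU n K q)} [hN : N.Normal] {v w : Fin n → K}
    (hr : Rel N v w) (g : ↥(Cfsg.SU n K q)) : Rel N (tm g *ᵥ v) (tm g *ᵥ w) := by
  obtain ⟨k, hk, a, ha, hkv⟩ := hr
  refine ⟨g * k * g⁻¹, hN.conj_mem k hk g, a, ha, ?_⟩
  rw [map_mul, map_mul, ← mulVec_mulVec, ← mulVec_mulVec, tm_inv_mulVec, hkv, mulVec_smul]

variable (D : Frob K q)

include D

/-- an isometry of determinant one fixing `p` and moving `y` to `y'` -/
theorem exists_fix_map {p y y' : Fin n → K} (hpp : h p p = 0) (hyy : h y y = 0) (hyy' : h y' y' = 0)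
    (hk : h y p ≠ 0) (heq : h y' p = h y p) :
    ∃ g : ↥(Cfsg.SU n K q), tm g *ᵥ p = p ∧ tm g *ᵥ y = y' := by
  obtain ⟨w, c, -, hwp, hc, hmap⟩ := Sg_map D p y y' hpp hyy hyy' hk heq
  refine ⟨mkSU (Sg (q := q) p w c) (Sg_det D p w c hpp hwp) (Sg_pres D p w c hpp hwp hc), ?_, ?_⟩
  · rw [toM_mkSU, Sg_mulVec, hpp, h_symm_zero D hwp]
    module
  · rw [toM_mkSU]; exact hmap

theorem Rel.of_ne_zero {N : Subgroup ↥(Cfsg.SU n K q)} [hN : N.Normal] {p p' w : Fin n → K}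
    (hr : Rel N p p') (hpp : h p p = 0) (hpp' : h p' p' = 0) (hne : h p' p ≠ 0) (hww : h w w = 0)
    (hwp : h w p ≠ 0) : Rel N p w := by
  have h1 : h ((h p' p)⁻¹ • p') p = 1 := by rw [h_smul_left, inv_mul_cancel₀ hne]
  have h2 : h ((h w p)⁻¹ • w) p = 1 := by rw [h_smul_left, inv_mul_cancel₀ hwp]
  have i1 : h ((h p' p)⁻¹ • p') ((h p' p)⁻¹ • p') = 0 := by
    rw [h_smul_left, h_smul_right D, hpp', mul_zero, mul_zero]
  have i2 : h ((h w p)⁻¹ • w) ((h w p)⁻¹ • w) = 0 := by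
    rw [h_smul_left, h_smul_right D, hww, mul_zero, mul_zero]
  obtain ⟨g, hg1, hg2⟩ := exists_fix_map D hpp i1 i2 (by rw [h1]; exact one_ne_zero)
    (by rw [h1, h2])
  have h3 := (hr.smul_right (inv_ne_zero hne)).map g
  rw [hg1, hg2] at h3
  have := h3.smul_right hwp
  rwa [smul_smul, mul_inv_cancel₀ hwp, one_smul] at this

/-- an isotropic vector orthogonal to `v₀` but not to `u₀` -/
theorem exists_iso_perp_ne {v₀ u₀ : Fin n → K} (hv₀ : v₀ ≠ 0) (hvv : h v₀ v₀ = 0)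
    (huu : h u₀ u₀ = 0) (huv : h u₀ v₀ = 0) (hind : ∀ a : K, u₀ ≠ a • v₀) :
    ∃ z, h z z = 0 ∧ h z v₀ = 0 ∧ h u₀ z ≠ 0 := by
  obtain ⟨v, -, hvv', hv₀v, hvv₀⟩ := exists_partner D (nonDeg_top D) (Submodule.mem_top) hv₀ hvv
  set a := h u₀ v with ha
  set u' := u₀ - a • v₀ with hu'
  have hu'v₀ : h u' v₀ = 0 := by rw [hu', h_sub_left, h_smul_left, huv, hvv]; ring
  have hu'v : h u' v = 0 := by rw [hu', h_sub_left, h_smul_left, hv₀v]; ring
  have hu'ne : u' ≠ 0 := fun h0 => hind a (sub_eq_zero.mp h0)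
  have hu'iso : h u' u' = 0 := by
    rw [hu', h_sub_left, h_sub_right D, h_sub_right D, h_smul_left, h_smul_left, h_smul_right D,
      h_smul_right D, huu, huv, hvv, h_symm_zero D huv]
    ring
  have htop : perpL q (⊥ : Submodule K (Fin n → K)) = ⊤ := perpL_bot D
  have hW : NonDeg q (perpL q ((⊥ : Submodule K (Fin n → K)) ⊔ Submodule.span K {v₀, v})) := by
    apply nonDeg_cut D (X := ⊥) _ _ _ hvv hvv' hv₀v hvv₀
    · rw [htop]; exact nonDeg_top D
    · rw [htop]; exact Submodule.mem_top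
    · rw [htop]; exact Submodule.mem_top
  have hu'W : u' ∈ perpL q ((⊥ : Submodule K (Fin n → K)) ⊔ Submodule.span K {v₀, v}) := by
    rw [mem_perpL_sup_pair D, htop]
    exact ⟨Submodule.mem_top, hu'v₀, hu'v⟩
  obtain ⟨x, hxW, hxx, hu'x⟩ := exists_iso_of_iso D hW hu'W hu'ne hu'iso
  rw [mem_perpL_sup_pair D] at hxW
  refine ⟨x, hxx, hxW.2.1, ?_⟩
  have : u₀ = u' + a • v₀ := by rw [hu']; module
  rw [this, h_add_left, h_smul_left, h_symm_zero D hxW.2.1, mul_zero, add_zero]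
  exact hu'x

/-- a normal subgroup moving some isotropic point is transitive on isotropic points -/
theorem rel_of_moves {N : Subgroup ↥(Cfsg.SU n K q)} [hN : N.Normal] {n₀ : ↥(Cfsg.SU n K q)}
    (hn₀ : n₀ ∈ N) {v₀ : Fin n → K} (hv₀ : v₀ ≠ 0) (hvv : h v₀ v₀ = 0)
    (hmove : ∀ a : K, tm n₀ *ᵥ v₀ ≠ a • v₀) :
    ∀ x y : Fin n → K, x ≠ 0 → y ≠ 0 → h x x = 0 → h y y = 0 → Rel N x y := by
  set u₀ := tm n₀ *ᵥ v₀ with hu₀
  have huu : h u₀ u₀ = 0 := by rw [hu₀, toM_pres n₀, hvv]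
  have hvu : Rel N v₀ u₀ := ⟨n₀, hn₀, 1, one_ne_zero, by rw [one_smul]⟩
  -- Step 1: a non-orthogonal equivalent pair
  obtain ⟨p, p', hpp, hpp', hrel, hne⟩ : ∃ p p' : Fin n → K, h p p = 0 ∧ h p' p' = 0 ∧
      Rel N p p' ∧ h p' p ≠ 0 := by
    by_cases h0 : h u₀ v₀ = 0
    · obtain ⟨z, hzz, hzv, huz⟩ := exists_iso_perp_ne D hv₀ hvv huu h0 hmove
      obtain ⟨s, hs0, hs⟩ := exists_skew D
      have hsq : s ^ q = -s := by rw [← D.pow]; exact hs
      set g := mkSU (T z s) (Cfsg.Agent.S0781.det_T z s hzz)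
        (Cfsg.Agent.S0781.Pres_T D.σ D.pow D.invol z s hzz hsq) with hg
      have hgv : tm g *ᵥ v₀ = v₀ := by
        rw [hg, toM_mkSU, T_mulVec, h_symm_zero D hzv]; module
      have hgu : tm g *ᵥ u₀ = u₀ + (s * h u₀ z) • z := by
        rw [hg, toM_mkSU, T_mulVec]
      have h1 := hvu.map g
      rw [hgv, hgu] at h1
      refine ⟨u₀, u₀ + (s * h u₀ z) • z, huu, ?_, hvu.symm.trans h1, ?_⟩
      · rw [← hgu, toM_pres g, huu]
      · rw [h_add_left, h_smul_left, huu, zero_add]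
        exact mul_ne_zero (mul_ne_zero hs0 huz) (h_symm_ne D huz)
    · exact ⟨v₀, u₀, hvv, huu, hvu, h0⟩
  have hp0 : p ≠ 0 := by
    rintro rfl
    exact hne (h_zero_right D p')
  have key : ∀ y : Fin n → K, y ≠ 0 → h y y = 0 → Rel N p y := by
    intro y hy hyy
    by_cases h0 : h y p = 0
    · obtain ⟨w, -, hww, hwp, hwy⟩ := exists_iso_both D (nonDeg_top D) (Submodule.mem_top (x := p))
        (Submodule.mem_top (x := y)) hpp hyy hp0 hy
      have h1 : Rel N p w := hrel.of_ne_zero D hpp hpp' hne hww hwp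
      have h2 : Rel N w y := h1.symm.of_ne_zero D hww hpp (h_symm_ne D hwp) hyy (h_symm_ne D hwy)
      exact h1.trans h2
    · exact hrel.of_ne_zero D hpp hpp' hne hyy h0
  intro x y hx hy hxx hyy
  exact (key x hx hxx).symm.trans (key y hy hyy)

/-- the root subgroup of an isotropic vector -/
def Te (v₀ : Fin n → K) (hvv : Cfsg.hermForm n K q v₀ v₀ = 0) : Subgroup ↥(Cfsg.SU n K q) where
  carrier := {g | ∃ c : K, D.σ c = -c ∧ Cfsg.Agent.S2644.toM K n q g = Cfsg.unitaryTransvection n q v₀ c}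
  one_mem' := ⟨0, by simp, by rw [map_one, Cfsg.Agent.S0781.T_zero_coeff]⟩
  mul_mem' := by
    rintro a b ⟨c, hc, ha⟩ ⟨d, hd, hb⟩
    refine ⟨c + d, by rw [map_add, hc, hd]; ring, ?_⟩
    rw [map_mul, ha, hb, Cfsg.Agent.S0781.T_mul D.σ D.pow v₀ c d hvv]
  inv_mem' := by
    rintro a ⟨c, hc, ha⟩
    refine ⟨-c, by rw [map_neg, hc], ?_⟩
    have h1 : tm a⁻¹ * tm a = 1 := by rw [← map_mul, inv_mul_cancel, map_one]
    have h2 : T v₀ c * T v₀ (-c) = 1 := by
      rw [Cfsg.Agent.S0781.T_mul D.σ D.pow v₀ c (-c) hvv, add_neg_cancel,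
        Cfsg.Agent.S0781.T_zero_coeff]
    calc tm a⁻¹ = tm a⁻¹ * (T v₀ c * T v₀ (-c)) := by rw [h2, Matrix.mul_one]
      _ = (tm a⁻¹ * tm a) * T v₀ (-c) := by rw [ha, Matrix.mul_assoc]
      _ = T v₀ (-c) := by rw [h1, Matrix.one_mul]

theorem Te_comm (v₀ : Fin n → K) (hvv : h v₀ v₀ = 0) : IsMulCommutative (Te D v₀ hvv) := by
  refine ⟨⟨?_⟩⟩
  rintro ⟨a, c, hc, ha⟩ ⟨b, d, hd, hb⟩
  apply Subtype.ext
  apply toM_injective
  change tm (a * b) = tm (b * a)
  rw [map_mul, map_mul, ha, hb, Cfsg.Agent.S0781.T_mul D.σ D.pow v₀ c d hvv,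
    Cfsg.Agent.S0781.T_mul D.σ D.pow v₀ d c hvv, add_comm]

/-- an element of `SU` fixing every isotropic point is central -/
theorem mem_center_of_fix [Finite K] (hn : 2 ≤ n) {g : ↥(Cfsg.SU n K q)}
    (hg : ∀ v : Fin n → K, v ≠ 0 → h v v = 0 → ∃ a : K, tm g *ᵥ v = a • v) :
    g ∈ Subgroup.center ↥(Cfsg.SU n K q) := by
  have hP := toM_pres g
  -- a fixed isotropic vector
  have hfr : 2 ≤ finrank K (⊤ : Submodule K (Fin n → K)) := by
    rw [finrank_top, Module.finrank_fin_fun]; exact hn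
  obtain ⟨u, -, v, -, hu0, huu, hvv, huv, hvu⟩ := exists_hyp_pair D (nonDeg_top D) hfr
  obtain ⟨l, hl⟩ := hg u hu0 huu
  -- all eigenvalues agree
  have step : ∀ x y : Fin n → K, x ≠ 0 → y ≠ 0 → h x x = 0 → h y y = 0 → h y x ≠ 0 →
      ∀ a b : K, tm g *ᵥ x = a • x → tm g *ᵥ y = b • y → a = b := by
    intro x y hx hy hxx hyy hyx a b hax hby
    obtain ⟨s, hs0, hs⟩ := exists_skew D
    set m := s / h y x with hm
    have hm0 : m ≠ 0 := div_ne_zero hs0 hyx
    have e1 : m * h y x = s := div_mul_cancel₀ _ hyx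
    have e2 : D.σ m * h x y = -s := by rw [← h_conj D x y, ← map_mul, e1, hs]
    have hwiso : h (x + m • y) (x + m • y) = 0 := by
      rw [h_self_add_smul D, hxx, hyy, e1, e2]; ring
    have hwne : x + m • y ≠ 0 := by
      intro h0
      have : h (x + m • y) x = 0 := by rw [h0, h_zero_left]
      rw [h_add_left, h_smul_left, hxx, e1, zero_add] at this
      exact hs0 this
    obtain ⟨c, hc⟩ := hg _ hwne hwiso
    rw [mulVec_add, mulVec_smul, hax, hby] at hc
    -- compare via the form with x and y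
    have h1 : h (a • x + m • b • y) x = h (c • (x + m • y)) x := by rw [hc]
    have h2 : h (a • x + m • b • y) y = h (c • (x + m • y)) y := by rw [hc]
    simp only [h_add_left, h_smul_left, hxx, hyy] at h1 h2
    have hxy : h x y ≠ 0 := h_symm_ne D hyx
    have hb : b = c := by
      have : m * h y x * (b - c) = 0 := by linear_combination h1
      rcases mul_eq_zero.mp this with h3 | h3
      · exact absurd h3 (mul_ne_zero hm0 hyx)
      · exact sub_eq_zero.mp h3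
    have ha : a = c := by
      have : h x y * (a - c) = 0 := by linear_combination h2
      rcases mul_eq_zero.mp this with h3 | h3
      · exact absurd h3 hxy
      · exact sub_eq_zero.mp h3
    rw [ha, hb]
  have hall : ∀ y : Fin n → K, y ≠ 0 → h y y = 0 → tm g *ᵥ y = l • y := by
    intro y hy hyy
    obtain ⟨b, hb⟩ := hg y hy hyy
    by_cases h0 : h y u = 0
    · obtain ⟨w, -, hww, hwu, hwy⟩ := exists_iso_both D (nonDeg_top D) (Submodule.mem_top (x := u))
        (Submodule.mem_top (x := y)) huu hyy hu0 hy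
      have hw0 : w ≠ 0 := by
        rintro rfl
        exact hwu (h_zero_left u)
      obtain ⟨c, hc⟩ := hg w hw0 hww
      have e1 := step u w hu0 hw0 huu hww hwu l c hl hc
      have e2 := step y w hy hw0 hyy hww hwy b c hb hc
      rw [hb, e2, ← e1]
    · have e1 := step u y hu0 hy huu hyy h0 l b hl hb
      rw [hb, ← e1]
  -- the norm of the eigenvalue is one
  have hnorm : l * D.σ l = 1 := by
    have hv0 : v ≠ 0 := by
      rintro rfl
      rw [h_zero_right D] at huv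
      exact zero_ne_one huv
    have := hP u v
    rw [hl, hall v hv0 hvv, h_smul_left, h_smul_right D, huv] at this
    linear_combination this
  have hl0 : l ≠ 0 := left_ne_zero_of_mul_eq_one hnorm
  have hσl : D.σ l = l⁻¹ := eq_inv_of_mul_eq_one_right hnorm
  -- g is scalar
  have hscal : ∀ z : Fin n → K, tm g *ᵥ z = l • z := by
    intro z
    by_contra hne
    have hr : tm g *ᵥ z - l • z ≠ 0 := sub_ne_zero.mpr hne
    have hz' : ∃ z' ∈ (⊤ : Submodule K (Fin n → K)), ∀ a : K, z' ≠ a • (tm g *ᵥ z - l • z) :=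
      by
        obtain ⟨z', hz', hz'n⟩ := exists_not_smul hfr (tm g *ᵥ z - l • z)
        exact ⟨z', hz', hz'n⟩
    obtain ⟨x, -, hxx, hrx⟩ := exists_iso_pair D (nonDeg_top D) (Submodule.mem_top) hr hz'
    apply hrx
    have hx0 : x ≠ 0 := by
      rintro rfl
      exact hrx (h_zero_right D _)
    have h1 := hP z x
    rw [hall x hx0 hxx, h_smul_right D, hσl] at h1
    rw [h_sub_left, h_smul_left]
    field_simp at h1
    linear_combination h1
  rw [Subgroup.mem_center_iff]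
  intro k
  apply toM_injective
  rw [map_mul, map_mul]
  apply mat_ext
  intro z
  rw [← mulVec_mulVec, ← mulVec_mulVec, hscal, hscal, mulVec_smul]

/-- a normal subgroup which moves an isotropic point contains the commutator subgroup -/
theorem commutator_le_of_moves [Fintype K] (hK : Fintype.card K = q ^ 2) (hn : 3 ≤ n)
    (h32 : ¬ (n = 3 ∧ q = 2)) {N : Subgroup ↥(Cfsg.SU n K q)} [hN : N.Normal]
    {n₀ : ↥(Cfsg.SU n K q)} (hn₀ : n₀ ∈ N) {v₀ : Fin n → K} (hv₀ : v₀ ≠ 0) (hvv : h v₀ v₀ = 0)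
    (hmove : ∀ a : K, tm n₀ *ᵥ v₀ ≠ a • v₀) :
    commutator ↥(Cfsg.SU n K q) ≤ N := by
  have hrel := rel_of_moves D hn₀ hv₀ hvv hmove
  apply hN.commutator_le_of_self_sup_commutative_eq_top (H := Te D v₀ hvv) ?_ (Te_comm D v₀ hvv)
  rw [eq_top_iff, ← Cfsg.Agent.S0780.result hK n hn h32, Subgroup.closure_le]
  rintro A ⟨v, c, hv, hA⟩
  rw [SetLike.mem_coe]
  have hA' : tm A = T v c := hA
  by_cases hv0 : v = 0
  · have : A = 1 := by
      apply toM_injective
      rw [hA', hv0, Cfsg.Agent.S0781.T_zero_vec, map_one]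
    rw [this]; exact Subgroup.one_mem _
  have hPT : Pres (q := q) (T v c) := by rw [← hA']; exact toM_pres A
  have hc : c ^ q = -c := Cfsg.Agent.S0781.skew_of_Pres D.σ D.pow D.invol v c hv0 hv hPT
  obtain ⟨k, hk, a, ha, hkv⟩ := hrel v₀ v hv₀ hv0 hvv hv
  have hfixa : D.σ (a ^ (q + 1)) = a ^ (q + 1) := by
    rw [pow_succ, map_mul, ← D.pow, D.invol, mul_comm]
  have hapow : a ^ (q + 1) ≠ 0 := pow_ne_zero _ ha
  set c' := c / a ^ (q + 1) with hc'
  have hc's : D.σ c' = -c' := by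
    rw [hc', map_div₀, hfixa, D.pow, hc]; ring
  have hc'q : c' ^ q = -c' := by rw [← D.pow]; exact hc's
  set B := mkSU (T v₀ c') (Cfsg.Agent.S0781.det_T v₀ c' hvv)
    (Cfsg.Agent.S0781.Pres_T D.σ D.pow D.invol v₀ c' hvv hc'q) with hB
  have hBmem : B ∈ Te D v₀ hvv := ⟨c', hc's, rfl⟩
  have e1 : A = k * B * k⁻¹ := by
    apply toM_injective
    have h1 : tm k * tm k⁻¹ = 1 := by rw [← map_mul, mul_inv_cancel, map_one]
    rw [map_mul, map_mul, hA', hB, toM_mkSU, T_conj (tm k) (toM_pres k), hkv, T_smul,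
      Matrix.mul_assoc, h1, Matrix.mul_one, hc', div_mul_cancel₀ _ hapow]
  rw [e1]
  have hk' : k ∈ N ⊔ Te D v₀ hvv := Subgroup.mem_sup_left hk
  exact Subgroup.mul_mem _ (Subgroup.mul_mem _ hk' (Subgroup.mem_sup_right hBmem))
    (Subgroup.inv_mem _ hk')

end Cfsg.Agent.Helper2.SUGen

namespace Cfsg.Agent.Helper2.SUGen

open Matrix Module Cfsg.Agent.S2644 Cfsg.Agent.Helper28

/-- `SU_n(q)` is perfect -/
theorem commutator_SU_eq_top {F : Type*} [Field F] [Fintype F] {q : ℕ}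
    (hF : Fintype.card F = q ^ 2) (n : ℕ) (hn : 3 ≤ n) (h32 : ¬ (n = 3 ∧ q = 2)) :
    commutator ↥(Cfsg.SU n F q) = ⊤ := by
  have hq2 : 2 ≤ q := by
    have h1 : 1 < Fintype.card F := Fintype.one_lt_card
    rw [hF] at h1
    by_contra hlt
    push Not at hlt
    interval_cases q <;> simp at h1
  have hn' : 4 ≤ n ∨ (n = 3 ∧ 3 ≤ q) := by
    rcases Nat.lt_or_ge n 4 with h4 | h4
    · right
      have hn3 : n = 3 := by omega
      refine ⟨hn3, ?_⟩
      by_contra hlt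
      exact h32 ⟨hn3, by omega⟩
    · exact Or.inl h4
  rw [eq_top_iff, ← Cfsg.Agent.S0780.result hF n hn h32, commutator_def,
    Subgroup.commutator_def, Subgroup.closure_le]
  rintro A ⟨v, c, hv, hA⟩
  apply Subgroup.subset_closure
  have := Cfsg.Agent.S0781.result hF n hn' A v c hv hA
  rw [mem_commutatorSet_iff] at this
  obtain ⟨g₁, g₂, hg⟩ := this
  exact ⟨g₁, Subgroup.mem_top _, g₂, Subgroup.mem_top _, hg⟩

/-- simplicity of `PSU_n(q)` -/
theorem PSU_isSimpleGroup {F : Type*} [Field F] [Fintype F] {q : ℕ}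
    (hF : Fintype.card F = q ^ 2) (n : ℕ) (hn : 3 ≤ n) (h32 : ¬ (n = 3 ∧ q = 2)) :
    IsSimpleGroup (Cfsg.PSU n F q) := by
  classical
  obtain ⟨σ, hσ, hσ2⟩ := Cfsg.Agent.Helper28.exists_frob hF
  have hσid := Cfsg.Agent.S0837.frob_ne_id hF σ hσ
  let D : Frob F q := ⟨σ, hσ, hσ2, hσid⟩
  have hperf := commutator_SU_eq_top hF n hn h32
  have key : ∀ N : Subgroup ↥(Cfsg.SU n F q), N.Normal →
      ¬ N ≤ Subgroup.center ↥(Cfsg.SU n F q) → N = ⊤ := by
    intro N hN hNZ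
    obtain ⟨n₀, hn₀, hn₀Z⟩ := SetLike.not_le_iff_exists.mp hNZ
    have : ∃ v : Fin n → F, v ≠ 0 ∧ Cfsg.hermForm n F q v v = 0 ∧
        ∀ a : F, Cfsg.Agent.S2644.toM F n q n₀ *ᵥ v ≠ a • v := by
      by_contra hcon
      push Not at hcon
      exact hn₀Z (mem_center_of_fix D (by omega) hcon)
    obtain ⟨v₀, hv₀, hvv, hmove⟩ := this
    have := commutator_le_of_moves D hF hn h32 hn₀ hv₀ hvv hmove
    rw [hperf] at this
    exact top_le_iff.mp this
  have hnc : ¬ (⊤ : Subgroup ↥(Cfsg.SU n F q)) ≤ Subgroup.center ↥(Cfsg.SU n F q) := by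
    intro hle
    have hcomm : ∀ a b : ↥(Cfsg.SU n F q), a * b = b * a := by
      intro a b
      exact Subgroup.mem_center_iff.mp (hle (Subgroup.mem_top b)) a
    have hbot : commutator ↥(Cfsg.SU n F q) = ⊥ := by
      rw [commutator_def, Subgroup.commutator_eq_bot_iff_le_centralizer]
      intro a _ b _
      exact hcomm b a
    rw [hperf] at hbot
    -- but the group is non-trivial
    have hfr : 2 ≤ finrank F (⊤ : Submodule F (Fin n → F)) := by
      rw [finrank_top, Module.finrank_fin_fun]; omega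
    obtain ⟨u, -, v, -, hu0, huu, hvv, huv, hvu⟩ := exists_hyp_pair D (nonDeg_top D) hfr
    obtain ⟨s, hs0, hs⟩ := exists_skew D
    have hsq : s ^ q = -s := by rw [← hσ]; exact hs
    have h1 : mkSU (Cfsg.unitaryTransvection n q u s) (Cfsg.Agent.S0781.det_T u s huu)
        (Cfsg.Agent.S0781.Pres_T σ hσ hσ2 u s huu hsq) ∈ (⊤ : Subgroup ↥(Cfsg.SU n F q)) :=
      Subgroup.mem_top _
    rw [hbot, Subgroup.mem_bot] at h1
    have h2 := congrArg (fun g : ↥(Cfsg.SU n F q) => Cfsg.Agent.S2644.toM F n q g *ᵥ v) h1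
    simp only [toM_mkSU, map_one, one_mulVec, T_mulVec, hvu, mul_one] at h2
    have h3 : s • u = 0 := by
      have := congrArg (fun w => w - v) h2
      simpa using this
    rcases smul_eq_zero.mp h3 with h4 | h4
    · exact hs0 h4
    · exact hu0 h4
  have hnt : Nontrivial (Cfsg.PSU n F q) := by
    by_contra hcon
    rw [not_nontrivial_iff_subsingleton] at hcon
    apply hnc
    intro g _
    have : (QuotientGroup.mk g : Cfsg.PSU n F q) = 1 := Subsingleton.elim _ _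
    exact (QuotientGroup.eq_one_iff g).mp this
  refine { exists_pair_ne := hnt.exists_pair_ne, eq_bot_or_eq_top_of_normal := ?_ }
  intro N' hN'
  set N := N'.comap (QuotientGroup.mk' (Subgroup.center ↥(Cfsg.SU n F q))) with hNdef
  have hNn : N.Normal := hN'.comap _
  by_cases hle : N ≤ Subgroup.center ↥(Cfsg.SU n F q)
  · left
    rw [Subgroup.eq_bot_iff_forall]
    intro x' hx'
    obtain ⟨x, rfl⟩ := QuotientGroup.mk_surjective x'
    have hxN : x ∈ N := hx'
    exact (QuotientGroup.eq_one_iff x).mpr (hle hxN)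
  · right
    have hNtop := key N hNn hle
    rw [Subgroup.eq_top_iff']
    intro x'
    obtain ⟨x, rfl⟩ := QuotientGroup.mk_surjective x'
    have : x ∈ N := by rw [hNtop]; trivial
    exact this

end Cfsg.Agent.Helper2.SUGen
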