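import Mathlib
import Cfsg.Agent.Helper2.SU.Simple
import Cfsg.Prelude.Def_SporadicB

/-! Unitary transvections over `F_4` form a class of 3-transpositions. -/

set_option autoImplicit false

namespace Cfsg.Agent.Helper2.SUGen

open Matrix Module Cfsg.Agent.S2644 Cfsg.Agent.Helper28

variable {K : Type*} [Field K] {q n : ℕ}

local notation "h" => Cfsg.hermForm n K q
local notation "T" => Cfsg.unitaryTransvection n q
local notation "tm" => Cfsg.Agent.S2644.toM K n q

theorem rank_pos_of_ne_zero {A : Matrix (Fin n) (Fin n) K} (hA : A ≠ 0) : A.rank ≠ 0 := by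
  intro h0
  apply hA
  unfold Matrix.rank at h0
  have hbot : LinearMap.range A.mulVecLin = ⊥ := Submodule.finrank_eq_zero.mp h0
  apply mat_ext
  intro x
  have : A.mulVecLin x ∈ LinearMap.range A.mulVecLin := ⟨x, rfl⟩
  rw [hbot, Submodule.mem_bot] at this
  rw [zero_mulVec]
  exact this

theorem T_sub_one (v : Fin n → K) (c : K) :
    T v c - 1 = vecMulVec (c • v) (cj (q := q) v) := by
  unfold Cfsg.unitaryTransvection cj
  rw [add_sub_cancel_left, Matrix.smul_vecMulVec]

theorem T_rank {v : Fin n → K} (hv : v ≠ 0) {c : K} (hc : c ≠ 0) (hq : q ≠ 0) :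
    (T v c - 1).rank = 1 := by
  rw [T_sub_one]
  apply le_antisymm (Matrix.rank_vecMulVec_le _ _)
  have : (vecMulVec (c • v) (cj (q := q) v)).rank ≠ 0 := by
    apply rank_pos_of_ne_zero
    intro h0
    obtain ⟨i, hi⟩ : ∃ i, v i ≠ 0 := by
      by_contra hcon
      push Not at hcon
      exact hv (funext hcon)
    have := congrFun (congrFun h0 i) i
    simp only [vecMulVec_apply, Pi.smul_apply, smul_eq_mul, cj, Matrix.zero_apply] at this
    exact mul_ne_zero (mul_ne_zero hc hi) (pow_ne_zero _ hi) this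
  omega

/-- rank one and determinant one implies transvection -/
theorem isTransvection_of_rank {M : Matrix (Fin n) (Fin n) K} (hdet : M.det = 1)
    (hr : (M - 1).rank = 1) : Cfsg.IsTransvection M := by
  refine ⟨hr, ?_⟩
  obtain ⟨u, w, hN⟩ := Cfsg.Agent.S2594.rank_one_decomp (M - 1) hr
  have hM : M = 1 + vecMulVec u w := by rw [← hN]; abel
  have hd : w ⬝ᵥ u = 0 := by
    rw [hM, Matrix.vecMulVec_eq Unit, Matrix.det_one_add_replicateCol_mul_replicateRow] at hdet
    linear_combination hdet
  rw [hN, Matrix.vecMulVec_mul_vecMulVec, hd, zero_smul]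
  ext i j
  simp [vecMulVec_apply]

theorem rank_conj (A B M : Matrix (Fin n) (Fin n) K) (hAB : A * B = 1) :
    (A * M * B - 1).rank = (M - 1).rank := by
  have hdetA : IsUnit A.det := by
    have := congrArg Matrix.det hAB
    rw [det_mul, det_one] at this
    exact IsUnit.of_mul_eq_one _ this
  have hdetB : IsUnit B.det := by
    have := congrArg Matrix.det hAB
    rw [det_mul, det_one] at this
    exact IsUnit.of_mul_eq_one_right _ this
  have : A * M * B - 1 = A * (M - 1) * B := by
    rw [Matrix.mul_sub, Matrix.sub_mul, Matrix.mul_one, hAB]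
  rw [this, Matrix.rank_mul_eq_left_of_isUnit_det B _ hdetB,
    Matrix.rank_mul_eq_right_of_isUnit_det A _ hdetA]

/-- unitary transvections of `SU_n(2)` form a class of 3-transpositions -/
theorem three_trans {F : Type*} [Field F] [Fintype F] (hF : Fintype.card F = 4) (n : ℕ)
    (hn : 4 ≤ n) :
    Cfsg.IsThreeTranspositionClass
      {g : ↥(Cfsg.SU n F 2) | (Cfsg.Agent.S2644.toM F n 2 g - 1).rank = 1} := by
  classical
  have hF' : Fintype.card F = 2 ^ 2 := by rw [hF]; norm_num
  obtain ⟨σ, hσ, hσ2⟩ := exists_frob hF'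
  have hσid := Cfsg.Agent.S0837.frob_ne_id hF' σ hσ
  let D : Frob F 2 := ⟨σ, hσ, hσ2, hσid⟩
  have h2 : (2 : F) = 0 := by
    have h4 := Nat.cast_card_eq_zero F
    rw [hF] at h4
    have h4' : (2 : F) * 2 = 0 := by
      have : ((4 : ℕ) : F) = 2 * 2 := by norm_num
      rw [← this]; exact h4
    exact mul_self_eq_zero.mp h4'
  have hneg : ∀ c : F, -c = c := fun c => by linear_combination (-c) * h2
  have h11 : (1 : F) + 1 = 0 := by linear_combination h2
  have hone_sq : (1 : F) ^ 2 = -1 := by rw [hneg]; ring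
  have hone_skew : D.σ 1 = -1 := by rw [map_one, hneg]
  -- structure of the members
  have hstruct : ∀ g : ↥(Cfsg.SU n F 2), (Cfsg.Agent.S2644.toM F n 2 g - 1).rank = 1 →
      ∃ v : Fin n → F, v ≠ 0 ∧ Cfsg.hermForm n F 2 v v = 0 ∧
        Cfsg.Agent.S2644.toM F n 2 g = Cfsg.unitaryTransvection n 2 v 1 := by
    intro g hg
    have ht := isTransvection_of_rank (M := Cfsg.Agent.S2644.toM F n 2 g) g.1.2 hg
    obtain ⟨v, c, hv, hvv, hc0, hcq, hM⟩ := transvection_structure σ hσ hσ2 _ (toM_pres g) ht
    have hc1 : c = 1 := by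
      rw [hneg] at hcq
      have : c * (c - 1) = 0 := by linear_combination hcq
      rcases mul_eq_zero.mp this with h0 | h0
      · exact absurd h0 hc0
      · linear_combination h0
    exact ⟨v, hv, hvv, by rw [hM, hc1]⟩
  have hTT : ∀ v : Fin n → F, Cfsg.hermForm n F 2 v v = 0 →
      Cfsg.unitaryTransvection n 2 v 1 * Cfsg.unitaryTransvection n 2 v 1 = 1 := by
    intro v hvv
    rw [Cfsg.Agent.S0781.T_mul σ hσ v 1 1 hvv, h11, Cfsg.Agent.S0781.T_zero_coeff]
  have hPT : ∀ v : Fin n → F, Cfsg.hermForm n F 2 v v = 0 →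
      Pres (q := 2) (Cfsg.unitaryTransvection n 2 v (1 : F)) :=
    fun v hvv => Cfsg.Agent.S0781.Pres_T σ hσ hσ2 v 1 hvv hone_sq
  have hsq : ∀ g : ↥(Cfsg.SU n F 2), (Cfsg.Agent.S2644.toM F n 2 g - 1).rank = 1 → g ^ 2 = 1 := by
    intro g hg
    obtain ⟨v, hv, hvv, hM⟩ := hstruct g hg
    apply toM_injective
    rw [pow_two, map_mul, hM, hTT v hvv, map_one]
  refine ⟨⟨?_, ?_⟩, ?_, ?_⟩
  · intro d hd
    apply orderOf_eq_prime (hsq d hd)
    rintro rfl
    have : (Cfsg.Agent.S2644.toM F n 2 (1 : ↥(Cfsg.SU n F 2)) - 1).rank = 1 := hd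
    rw [map_one, sub_self, Matrix.rank_zero] at this
    exact zero_ne_one this
  · intro d hd e he
    obtain ⟨u, hu, huu, hMd⟩ := hstruct d hd
    obtain ⟨v, hv, hvv, hMe⟩ := hstruct e he
    have hd2 := hsq d hd
    have he2 := hsq e he
    by_cases ha : Cfsg.hermForm n F 2 u v = 0
    · left
      have hcomm : d * e = e * d := by
        apply toM_injective
        rw [map_mul, map_mul, hMd, hMe, T_conj _ (hPT u huu) v 1, T_mulVec, h_symm_zero D ha,
          mul_zero, zero_smul, add_zero]
      have : Commute d e := hcomm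
      rw [this.mul_pow, hd2, he2, one_mul]
    · right
      set a := Cfsg.hermForm n F 2 u v with hadef
      have ha3 : a ^ 3 = 1 := by
        have := FiniteField.pow_card_sub_one_eq_one a ha
        rw [hF] at this
        exact this
      have hvu : Cfsg.hermForm n F 2 v u = a ^ 2 := by
        rw [← hσ, hadef]; exact (h_conj D v u).symm
      have hbraid : d * e * d = e * d * e := by
        apply toM_injective
        rw [map_mul, map_mul, map_mul, map_mul, hMd, hMe, T_conj _ (hPT u huu) v 1, Matrix.mul_assoc,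
          hTT u huu, Matrix.mul_one, T_conj _ (hPT v hvv) u 1, Matrix.mul_assoc, hTT v hvv,
          Matrix.mul_one, T_mulVec, T_mulVec, one_mul, one_mul, hvu, ← hadef]
        have : u + a • v = a • (v + a ^ 2 • u) := by
          have h3 : a * a ^ 2 = 1 := by rw [← ha3]; ring
          have : a • (v + a ^ 2 • u) = (a * a ^ 2) • u + a • v := by module
          rw [this, h3, one_smul]
        rw [this, T_smul, one_mul, show 2 + 1 = 3 from rfl, ha3]
      calc (d * e) ^ 3 = d * e * d * (e * d * e) := by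
            simp only [pow_succ, pow_zero, one_mul, mul_assoc]
        _ = e * d * e * (e * d * e) := by rw [hbraid]
        _ = e * d * (e * e) * (d * e) := by simp only [mul_assoc]
        _ = e * (d * d) * e := by rw [← pow_two, he2]; simp only [mul_one, mul_assoc]
        _ = 1 := by rw [← pow_two d, hd2, mul_one, ← pow_two, he2]
  · -- a conjugacy class
    have hfr : 2 ≤ finrank F (⊤ : Submodule F (Fin n → F)) := by
      rw [finrank_top, Module.finrank_fin_fun]; omega
    obtain ⟨u, -, v, -, hu0, huu, hvv, huv, hvu⟩ := exists_hyp_pair D (nonDeg_top D) hfr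
    set d0 := mkSU (Cfsg.unitaryTransvection n 2 u (1 : F)) (Cfsg.Agent.S0781.det_T u 1 huu)
      (hPT u huu) with hd0
    have hd0r : (Cfsg.Agent.S2644.toM F n 2 d0 - 1).rank = 1 := by
      rw [hd0, toM_mkSU]
      exact T_rank hu0 one_ne_zero (by norm_num)
    refine ⟨d0, hd0r, ?_⟩
    ext x
    change (Cfsg.Agent.S2644.toM F n 2 x - 1).rank = 1 ↔ IsConj d0 x
    constructor
    · intro hx
      exact Cfsg.Agent.S2644.result hF' (by omega) d0 x
        (isTransvection_of_rank (M := Cfsg.Agent.S2644.toM F n 2 d0) d0.1.2 hd0r)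
        (isTransvection_of_rank (M := Cfsg.Agent.S2644.toM F n 2 x) x.1.2 hx)
    · intro hx
      rw [isConj_iff] at hx
      obtain ⟨k, rfl⟩ := hx
      rw [map_mul, map_mul, rank_conj _ _ _ (by rw [← map_mul, mul_inv_cancel, map_one])]
      exact hd0r
  · rw [eq_top_iff, ← Cfsg.Agent.S0780.result hF' n (by omega) (by omega), Subgroup.closure_le]
    rintro A ⟨v, c, hv, hA⟩
    rw [SetLike.mem_coe]
    have hA' : Cfsg.Agent.S2644.toM F n 2 A = Cfsg.unitaryTransvection n 2 v c := hA
    by_cases hv0 : v = 0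
    · have : A = 1 := by
        apply toM_injective
        rw [hA', hv0, Cfsg.Agent.S0781.T_zero_vec, map_one]
      rw [this]; exact Subgroup.one_mem _
    by_cases hc0 : c = 0
    · have : A = 1 := by
        apply toM_injective
        rw [hA', hc0, Cfsg.Agent.S0781.T_zero_coeff, map_one]
      rw [this]; exact Subgroup.one_mem _
    apply Subgroup.subset_closure
    change (Cfsg.Agent.S2644.toM F n 2 A - 1).rank = 1
    rw [hA']
    exact T_rank hv0 hc0 (by norm_num)

end Cfsg.Agent.Helper2.SUGen
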