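import Mathlib
import Cfsg.Agent.Helper2.SU.Main
import Cfsg.Agent.Helper2.SU.ThreeTrans

/-! Involutions of `SU_n(q)`, `q` even, are conjugate as soon as they have the same rank. -/

set_option autoImplicit false

namespace Cfsg.Agent.Helper2.SUGen

open Matrix Module Cfsg.Agent.S2644 Cfsg.Agent.Helper28

variable {K : Type*} [Field K] {q n : ℕ}

local notation "h" => Cfsg.hermForm n K q
local notation "T" => Cfsg.unitaryTransvection n q

theorem rank_add_nul (M : Matrix (Fin n) (Fin n) K) :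
    M.rank + finrank K (LinearMap.ker M.mulVecLin) = n := by
  have h1 := LinearMap.finrank_range_add_finrank_ker M.mulVecLin
  rw [Module.finrank_fin_fun] at h1
  exact h1

variable (D : Frob K q)

include D

theorem exists_sqrt_fix [Finite K] (h2 : (2 : K) = 0) {c : K} (hc : D.σ c = c) :
    ∃ m, D.σ m = m ∧ m * m = c := by
  have hchar : CharP K 2 := CharTwo.of_one_ne_zero_of_two_eq_zero one_ne_zero h2
  obtain ⟨m, hm⟩ := isSquare_of_charTwo' c
  refine ⟨m, ?_, hm.symm⟩
  have e1 : D.σ m * D.σ m = c := by rw [← map_mul, ← hm, hc]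
  have e0 : m * m = c := hm.symm
  have e2 : (D.σ m - m) * (D.σ m - m) = 0 := by
    linear_combination e1 + e0 + (c - D.σ m * m) * h2
  have e3 : D.σ m - m = 0 := by
    rcases mul_eq_zero.mp e2 with e | e <;> exact e
  exact sub_eq_zero.mp e3

/-- peeling off one transvection from an involution -/
theorem peel [Finite K] (h2 : (2 : K) = 0) {X : Submodule K (Fin n → K)}
    (hY : NonDeg q (perpL q X)) {A : Matrix (Fin n) (Fin n) K} (hP : Pres (q := q) A)
    (hAA : A * A = 1) (hfix : ∀ z ∈ X, A *ᵥ z = z) (hA1 : A ≠ 1) :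
    ∃ (w u : Fin n → K) (A' : Matrix (Fin n) (Fin n) K), w ∈ perpL q X ∧ u ∈ perpL q X ∧
      h w w = 0 ∧ h u u = 0 ∧ h w u = 1 ∧ h u w = 1 ∧ Pres (q := q) A' ∧ A' * A' = 1 ∧
      (∀ z ∈ X, A' *ᵥ z = z) ∧ A' *ᵥ w = w ∧ A' *ᵥ u = u ∧ A = T w 1 * A' ∧
      (A' - 1).rank + 1 = (A - 1).rank := by
  have hneg : ∀ a : K, -a = a := fun a =>
    neg_eq_of_add_eq_zero_left (by rw [← two_mul, h2, zero_mul])
  have hvv : ∀ v : Fin n → K, v + v = 0 := fun v => by rw [← two_smul K v, h2, zero_smul]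
  set N := A - 1 with hN
  have hNv : ∀ y, N *ᵥ y = A *ᵥ y - y := fun y => by
    rw [hN, Matrix.sub_mulVec, Matrix.one_mulVec]
  have hAAv : ∀ y, A *ᵥ (A *ᵥ y) = y := fun y => by
    rw [Matrix.mulVec_mulVec, hAA, Matrix.one_mulVec]
  have hadj : ∀ x y, h (A *ᵥ x) y = h x (A *ᵥ y) := by
    intro x y
    have h0 := hP x (A *ᵥ y)
    rw [hAAv] at h0
    exact h0
  have hNadj : ∀ x y, h (N *ᵥ x) y = h x (N *ᵥ y) := by
    intro x y
    rw [hNv, hNv, h_sub_left, h_sub_right D, hadj]
  have hNN : ∀ y, N *ᵥ (N *ᵥ y) = 0 := by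
    intro y
    rw [hNv, hNv, Matrix.mulVec_sub, hAAv]
    calc y - A *ᵥ y - (A *ᵥ y - y) = (y - A *ᵥ y) + (y - A *ᵥ y) := by abel
      _ = 0 := hvv _
  have hNiso : ∀ x y, h (N *ᵥ x) (N *ᵥ y) = 0 := by
    intro x y
    rw [hNadj, hNN, h_zero_right D]
  have hNY : ∀ y, N *ᵥ y ∈ perpL q X := by
    intro y
    rw [mem_perpL]
    intro z hz
    rw [hNadj, hNv, hfix z hz, sub_self, h_zero_right D]
  -- some value of the form is nonzero
  obtain ⟨x, hxY, hx⟩ : ∃ x ∈ perpL q X, h (N *ᵥ x) x ≠ 0 := by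
    by_contra hcon
    push Not at hcon
    obtain ⟨c, hc⟩ : ∃ c, D.σ c ≠ c := by
      by_contra hcon2
      push Not at hcon2
      exact D.ne_id (RingHom.ext hcon2)
    have e1 : ∀ x ∈ perpL q X, ∀ y ∈ perpL q X,
        h (N *ᵥ x) y + D.σ (h (N *ᵥ x) y) = 0 := by
      intro x hx y hy
      have h3 := hcon (x + y) (Submodule.add_mem _ hx hy)
      rw [Matrix.mulVec_add, h_add_left, h_add_right D, h_add_right D, hcon x hx, hcon y hy] at h3
      have h4 : h (N *ᵥ y) x = D.σ (h (N *ᵥ x) y) := by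
        rw [h_conj D, hNadj]
      rw [h4] at h3
      linear_combination h3
    have hβ : ∀ x ∈ perpL q X, ∀ y ∈ perpL q X, h (N *ᵥ x) y = 0 := by
      intro x hx y hy
      have e2 := e1 x hx y hy
      have e3 := e1 (c • x) (Submodule.smul_mem _ c hx) y hy
      rw [Matrix.mulVec_smul, h_smul_left, map_mul] at e3
      have e4 : (c - D.σ c) * h (N *ᵥ x) y = 0 := by linear_combination e3 - D.σ c * e2
      rcases mul_eq_zero.mp e4 with e5 | e5
      · exact absurd (sub_eq_zero.mp e5).symm hc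
      · exact e5
    apply hA1
    have hN0 : ∀ v, N *ᵥ v = 0 := by
      intro v
      apply hY (N *ᵥ v) (hNY v)
      intro y hy
      rw [hNadj]
      have h5 : N *ᵥ y = 0 := hY (N *ᵥ y) (hNY y) (fun y' hy' => hβ y hy y' hy')
      rw [h5, h_zero_right D]
    apply mat_ext
    intro v
    have h6 := hN0 v
    rw [hNv, sub_eq_zero] at h6
    rw [h6, Matrix.one_mulVec]
  -- normalise
  have hcfix : D.σ (h (N *ᵥ x) x) = h (N *ᵥ x) x := by rw [h_conj D, ← hNadj]
  obtain ⟨a, ha⟩ := exists_norm D (h (N *ᵥ x) x)⁻¹ (inv_ne_zero hx) (by rw [map_inv₀, hcfix])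
  obtain ⟨x₁, hx₁⟩ : ∃ x₁, x₁ = a • x := ⟨_, rfl⟩
  have hx₁Y : x₁ ∈ perpL q X := by rw [hx₁]; exact Submodule.smul_mem _ a hxY
  obtain ⟨w, hw⟩ : ∃ w, w = N *ᵥ x₁ := ⟨_, rfl⟩
  have hwx : h w x₁ = 1 := by
    rw [hw, hx₁, Matrix.mulVec_smul, h_smul_left, h_smul_right D, ← mul_assoc, ha,
      inv_mul_cancel₀ hx]
  have hxw : h x₁ w = 1 := by rw [← h_conj D, hwx, map_one]
  have hww : h w w = 0 := by rw [hw]; exact hNiso x₁ x₁
  have hwY : w ∈ perpL q X := by rw [hw]; exact hNY x₁
  have hNw : N *ᵥ w = 0 := by rw [hw]; exact hNN x₁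
  have hAw : A *ᵥ w = w := by
    have h7 := hNw
    rw [hNv, sub_eq_zero] at h7
    exact h7
  have hAx : A *ᵥ x₁ = x₁ + w := by rw [hw, hNv]; abel
  obtain ⟨t, ht⟩ := exists_trace D (h x₁ x₁) (h_self_fix D x₁)
  obtain ⟨u, hu⟩ : ∃ u, u = x₁ + t • w := ⟨_, rfl⟩
  have huY : u ∈ perpL q X := by
    rw [hu]; exact Submodule.add_mem _ hx₁Y (Submodule.smul_mem _ t hwY)
  have huu : h u u = 0 := by
    rw [hu, h_self_add_smul D, hxw, hwx, hww, mul_zero, add_zero, mul_one, mul_one, ← ht]
    linear_combination (t + D.σ t) * h2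
  have hwu : h w u = 1 := by
    rw [hu, h_add_right D, h_smul_right D, hwx, hww, mul_zero, add_zero]
  have huw : h u w = 1 := by rw [← h_conj D, hwu, map_one]
  have h1q : (1 : K) ^ q = -1 := by rw [one_pow, hneg]
  have hPT : Pres (q := q) (T w 1) :=
    Cfsg.Agent.S0781.Pres_T D.σ D.pow D.invol w 1 hww h1q
  have hTT : T w 1 * T w 1 = 1 := by
    rw [Cfsg.Agent.S0781.T_mul D.σ D.pow w 1 1 hww, one_add_one_eq_two, h2,
      Cfsg.Agent.S0781.T_zero_coeff]
  have hcomm : A * T w 1 = T w 1 * A := by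
    have h8 := T_conj A hP w (1 : K)
    rwa [hAw] at h8
  have hw0 : w ≠ 0 := by
    intro h0
    rw [h0, h_zero_left] at hwx
    exact zero_ne_one hwx
  have hx₁0 : x₁ ≠ 0 := by
    intro h0
    rw [h0, h_zero_right D] at hwx
    exact zero_ne_one hwx
  refine ⟨w, u, T w 1 * A, hwY, huY, hww, huu, hwu, huw, hPT.mul hP, ?_, ?_, ?_, ?_, ?_, ?_⟩
  · calc T w 1 * A * (T w 1 * A) = T w 1 * (A * T w 1) * A := by simp only [Matrix.mul_assoc]
      _ = T w 1 * (T w 1 * A) * A := by rw [hcomm]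
      _ = (T w 1 * T w 1) * (A * A) := by simp only [Matrix.mul_assoc]
      _ = 1 := by rw [hTT, hAA, Matrix.one_mul]
  · intro z hz
    rw [← Matrix.mulVec_mulVec, hfix z hz, T_mulVec, h_symm_zero D (hwY z hz), mul_zero, zero_smul,
      add_zero]
  · rw [← Matrix.mulVec_mulVec, hAw, T_mulVec, hww, mul_zero, zero_smul, add_zero]
  · have e1 : (T w 1 * A) *ᵥ x₁ = x₁ := by
      rw [← Matrix.mulVec_mulVec, hAx, T_mulVec, h_add_left, hxw, hww, add_zero, mul_one, one_smul,
        add_assoc, hvv, add_zero]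
    have e2 : (T w 1 * A) *ᵥ w = w := by
      rw [← Matrix.mulVec_mulVec, hAw, T_mulVec, hww, mul_zero, zero_smul, add_zero]
    rw [hu, Matrix.mulVec_add, Matrix.mulVec_smul, e1, e2]
  · rw [← Matrix.mul_assoc, hTT, Matrix.one_mul]
  · have hN'v : ∀ y, (T w 1 * A - 1) *ᵥ y = N *ᵥ y + h y w • w := by
      intro y
      rw [Matrix.sub_mulVec, Matrix.one_mulVec, ← Matrix.mulVec_mulVec, T_mulVec, one_mul, hadj,
        hAw, hNv]
      abel
    have hk1 : LinearMap.ker N.mulVecLin ⊔ Submodule.span K {x₁}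
        = LinearMap.ker (T w 1 * A - 1).mulVecLin := by
      apply le_antisymm
      · apply sup_le
        · intro y hy
          rw [LinearMap.mem_ker, Matrix.mulVecLin_apply] at hy ⊢
          have h9 : h y w = 0 := by rw [hw, ← hNadj, hy, h_zero_left]
          rw [hN'v, hy, zero_add, h9, zero_smul]
        · rw [Submodule.span_le, Set.singleton_subset_iff]
          show x₁ ∈ LinearMap.ker _
          rw [LinearMap.mem_ker, Matrix.mulVecLin_apply, hN'v, hxw, one_smul, ← hw, hvv]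
      · intro y hy
        rw [LinearMap.mem_ker, Matrix.mulVecLin_apply, hN'v] at hy
        have e1 : N *ᵥ (y + h y w • x₁) = 0 := by
          rw [Matrix.mulVec_add, Matrix.mulVec_smul, ← hw]; exact hy
        have e2 : y = (y + h y w • x₁) + h y w • x₁ := by
          rw [add_assoc, hvv, add_zero]
        rw [e2]
        refine Submodule.add_mem _ (Submodule.mem_sup_left ?_)
          (Submodule.mem_sup_right (Submodule.smul_mem _ _ (Submodule.mem_span_singleton_self x₁)))
        rw [LinearMap.mem_ker, Matrix.mulVecLin_apply]; exact e1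
    have hinf : LinearMap.ker N.mulVecLin ⊓ Submodule.span K {x₁} = ⊥ := by
      rw [eq_bot_iff]
      rintro y ⟨hy1, hy2⟩
      obtain ⟨b, rfl⟩ := Submodule.mem_span_singleton.mp hy2
      have hy1' : N *ᵥ (b • x₁) = 0 := by
        have h10 := hy1
        rw [SetLike.mem_coe, LinearMap.mem_ker, Matrix.mulVecLin_apply] at h10
        exact h10
      rw [Matrix.mulVec_smul, ← hw] at hy1'
      rcases smul_eq_zero.mp hy1' with hb | hb
      · rw [hb, zero_smul]; exact Submodule.zero_mem _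
      · exact absurd hb hw0
    have hfr := Submodule.finrank_sup_add_finrank_inf_eq (LinearMap.ker N.mulVecLin)
      (Submodule.span K {x₁})
    rw [hinf, finrank_bot, add_zero, finrank_span_singleton hx₁0, hk1] at hfr
    have r1 := rank_add_nul N
    have r2 := rank_add_nul (T w 1 * A - 1)
    omega

/-- in a hyperbolic plane every isotropic vector is, up to a scalar of norm one, the image of the
first basis vector under a product of transvections -/
theorem plane_conj [Finite K] (h2 : (2 : K) = 0) {w u : Fin n → K} (H : HypPair q w u) {a b : K}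
    (hne : a • w + b • u ≠ 0) (hiso : h (a • w + b • u) (a • w + b • u) = 0) :
    ∃ M ∈ TT D (Submodule.span K ({w, u} : Set (Fin n → K))), ∃ l : K, l ^ (q + 1) = 1 ∧
      M *ᵥ w = l • (a • w + b • u) := by
  have hneg : ∀ a : K, -a = a := fun a =>
    neg_eq_of_add_eq_zero_left (by rw [← two_mul, h2, zero_mul])
  have hiso' : a * D.σ b + b * D.σ a = 0 := by
    simp only [h_add_left, h_smul_left, h_add_right D, h_smul_right D, H.huu, H.hvv, H.huv,
      H.hvu] at hiso
    linear_combination hiso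
  have hpow : ∀ m : K, D.σ m = m → m ^ (q + 1) = m * m := by
    intro m hm
    rw [pow_succ, ← D.pow, hm]
  have hnorm : ∀ z : K, z ^ (q + 1) = z * D.σ z := by
    intro z
    rw [pow_succ, ← D.pow, mul_comm]
  by_cases hb : b = 0
  · subst hb
    have ha0 : a ≠ 0 := by
      rintro rfl
      apply hne
      rw [zero_smul, zero_smul, add_zero]
    obtain ⟨m, hm, hmm⟩ := exists_sqrt_fix D h2 (c := a * D.σ a)
      (by rw [map_mul, D.invol, mul_comm])
    have hm0 : m ≠ 0 := by
      rintro rfl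
      rw [mul_zero] at hmm
      exact mul_ne_zero ha0 (σ_ne_zero D ha0) hmm.symm
    obtain ⟨t, ht, htw, -⟩ := torus D H hm0 hm
    refine ⟨t, ht, m / a, ?_, ?_⟩
    · rw [div_pow, hpow m hm, hnorm a, hmm, div_self (mul_ne_zero ha0 (σ_ne_zero D ha0))]
    · rw [htw, zero_smul, add_zero, smul_smul, div_mul_cancel₀ _ ha0]
  · have hσb : D.σ b ≠ 0 := σ_ne_zero D hb
    have hc₀ : D.σ (a / b) = a / b := by
      rw [map_div₀, div_eq_div_iff hσb hb]
      linear_combination hiso' - (a * D.σ b) * h2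
    have hc₀' : D.σ (a / b) = -(a / b) := by rw [hc₀, hneg]
    obtain ⟨t₁, ht₁, ht₁w, -⟩ := wel D H (a := (1 : K)) one_ne_zero (by rw [map_one, hneg])
    have hone : (-(1 : K)⁻¹) = 1 := by rw [inv_one, hneg]
    rw [hone, one_smul] at ht₁w
    obtain ⟨m, hm, hmm⟩ := exists_sqrt_fix D h2 (c := b * D.σ b)
      (by rw [map_mul, D.invol, mul_comm])
    have hm0 : m ≠ 0 := by
      rintro rfl
      rw [mul_zero] at hmm
      exact mul_ne_zero hb hσb hmm.symm
    obtain ⟨t₂, ht₂, ht₂w, -⟩ := torus D H hm0 hm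
    have hTmem : T w (a / b) ∈ TT D (Submodule.span K ({w, u} : Set (Fin n → K))) :=
      T_mem_TT D (u_mem D H) H.huu hc₀'
    refine ⟨T w (a / b) * t₁ * t₂, Submonoid.mul_mem _ (Submonoid.mul_mem _ hTmem ht₁) ht₂,
      m / b, ?_, ?_⟩
    · rw [div_pow, hpow m hm, hnorm b, hmm, div_self (mul_ne_zero hb hσb)]
    · rw [← Matrix.mulVec_mulVec, ← Matrix.mulVec_mulVec, ht₂w, Matrix.mulVec_smul, ht₁w,
        Matrix.mulVec_smul, Tu_v D H]
      have hl1 : m / b * a = m * (a / b) := by field_simp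
      have hl2 : m / b * b = m := div_mul_cancel₀ _ hb
      rw [smul_add, smul_add, smul_smul, smul_smul, smul_smul, hl1, hl2, add_comm]

/-- the main induction: involutive isometries fixing `X` pointwise with the same rank are conjugate
under a product of Siegel elements of `X^⊥` -/
theorem invol_conj [Finite K] (h2 : (2 : K) = 0) :
    ∀ (d : ℕ) (X : Submodule K (Fin n → K)), NonDeg q (perpL q X) →
    finrank K (perpL q X) = d → ∀ A B : Matrix (Fin n) (Fin n) K, Pres (q := q) A →
    Pres (q := q) B → A * A = 1 → B * B = 1 → (∀ z ∈ X, A *ᵥ z = z) → (∀ z ∈ X, B *ᵥ z = z) →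
    (A - 1).rank = (B - 1).rank → ∃ M ∈ Gen D (perpL q X), M * A = B * M := by
  intro d
  induction d using Nat.strong_induction_on with
  | _ d ih =>
  intro X hY hd A B hPA hPB hAA hBB hfA hfB hrank
  by_cases hA1 : A = 1
  · have hB1 : B = 1 := by
      by_contra hB1
      have h0 : B - 1 ≠ 0 := fun h0 => hB1 (sub_eq_zero.mp h0)
      have h1 := rank_pos_of_ne_zero h0
      rw [← hrank, hA1, sub_self, Matrix.rank_zero] at h1
      exact h1 rfl
    exact ⟨1, Submonoid.one_mem _, by rw [hA1, hB1]⟩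
  have hB1 : B ≠ 1 := by
    intro hB1
    have h0 : A - 1 ≠ 0 := fun h0 => hA1 (sub_eq_zero.mp h0)
    have h1 := rank_pos_of_ne_zero h0
    rw [hrank, hB1, sub_self, Matrix.rank_zero] at h1
    exact h1 rfl
  obtain ⟨w, u, A', hw, hu, hww, huu, hwu, huw, hPA', hAA', hfA', hA'w, hA'u, hAeq, hrA⟩ :=
    peel D h2 hY hPA hAA hfA hA1
  obtain ⟨w', u', B', hw', hu', hww', huu', hwu', huw', hPB', hBB', hfB', hB'w, hB'u, hBeq, hrB⟩ :=
    peel D h2 hY hPB hBB hfB hB1
  have hrank' : (A' - 1).rank = (B' - 1).rank := by omega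
  have H : HypPair q w u := ⟨hww, huu, hwu, huw⟩
  have H' : HypPair q w' u' := ⟨hww', huu', hwu', huw'⟩
  rcases Nat.lt_or_ge d 3 with hd3 | hd3
  · -- the plane case
    have hspan : ∀ {u v : Fin n → K}, HypPair q u v → u ∈ perpL q X → v ∈ perpL q X →
        Submodule.span K ({u, v} : Set (Fin n → K)) = perpL q X := by
      intro u v H hu hv
      have hli : LinearIndependent K ![u, v] := by
        rw [LinearIndependent.pair_iff]
        intro s t hst
        have h1 : h (s • u + t • v) v = 0 := by rw [hst, h_zero_left]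
        have h2 : h (s • u + t • v) u = 0 := by rw [hst, h_zero_left]
        rw [h_add_left, h_smul_left, h_smul_left, H.huv, H.hvv] at h1
        rw [h_add_left, h_smul_left, h_smul_left, H.huu, H.hvu] at h2
        exact ⟨by linear_combination h1, by linear_combination h2⟩
      have hrange : Set.range ![u, v] = {u, v} := by
        simp
        exact Set.pair_comm v u
      have hfr : finrank K (Submodule.span K ({u, v} : Set (Fin n → K))) = 2 := by
        rw [← hrange, finrank_span_eq_card hli, Fintype.card_fin]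
      have hle : Submodule.span K ({u, v} : Set (Fin n → K)) ≤ perpL q X := by
        rw [Submodule.span_le]
        intro y hy
        rcases hy with rfl | rfl
        · exact hu
        · exact hv
      exact Submodule.eq_of_le_of_finrank_le hle (by rw [hfr]; omega)
    have hone : ∀ {u v : Fin n → K}, HypPair q u v → u ∈ perpL q X → v ∈ perpL q X →
        ∀ C : Matrix (Fin n) (Fin n) K,
        (∀ z ∈ X ⊔ Submodule.span K ({u, v} : Set (Fin n → K)), C *ᵥ z = z) → C = 1 := by
      intro u v H hu hv C hC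
      apply ext_plane D H
      · intro z h1 h2
        rw [one_mulVec]
        apply hC
        apply Submodule.mem_sup_left
        rw [← perpL_perpL D X, ← hspan H hu hv]
        exact perp_span_pair D h1 h2
      · rw [one_mulVec]
        exact hC _ (Submodule.mem_sup_right (u_mem D H))
      · rw [one_mulVec]
        exact hC _ (Submodule.mem_sup_right (v_mem D H))
    have hfixsup : ∀ {u v : Fin n → K} (C : Matrix (Fin n) (Fin n) K), (∀ z ∈ X, C *ᵥ z = z) →
        C *ᵥ u = u → C *ᵥ v = v →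
        ∀ z ∈ X ⊔ Submodule.span K ({u, v} : Set (Fin n → K)), C *ᵥ z = z := by
      intro u v C hC hCu hCv z hz
      obtain ⟨x1, hx1, x2, hx2, rfl⟩ := Submodule.mem_sup.mp hz
      obtain ⟨a, b, rfl⟩ := Submodule.mem_span_pair.mp hx2
      rw [mulVec_add, mulVec_add, mulVec_smul, mulVec_smul, hC x1 hx1, hCu, hCv]
    have hA'1 : A' = 1 := hone H hw hu A' (hfixsup A' hfA' hA'w hA'u)
    have hB'1 : B' = 1 := hone H' hw' hu' B' (hfixsup B' hfB' hB'w hB'u)
    have hw'mem : w' ∈ Submodule.span K ({w, u} : Set (Fin n → K)) := by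
      rw [hspan H hw hu]; exact hw'
    obtain ⟨a, b, hab⟩ := Submodule.mem_span_pair.mp hw'mem
    have hw'0 : w' ≠ 0 := by
      intro h0
      rw [h0, h_zero_left] at hwu'
      exact zero_ne_one hwu'
    obtain ⟨M, hM, l, hl, hMw⟩ := plane_conj D h2 H (a := a) (b := b) (by rw [hab]; exact hw'0)
      (by rw [hab]; exact hww')
    have hle : Submodule.span K ({w, u} : Set (Fin n → K)) ≤ perpL q X := by
      rw [hspan H hw hu]
    have hMG : M ∈ Gen D (perpL q X) := Gen_mono D hle (TT_le_Gen D _ hM)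
    refine ⟨M, hMG, ?_⟩
    rw [hAeq, hBeq, hA'1, hB'1, Matrix.mul_one, Matrix.mul_one, T_conj M (Gen_pres D hMG), hMw, hab,
      T_smul, hl, mul_one]
  · obtain ⟨t, ht, htw, htu⟩ := trans_pair D hY (by omega) hw hu hw' hu' hww huu huw hww' huu' huw'
    obtain ⟨t', ht', h1, h2'⟩ := Gen_inv D ht
    have hPt := Gen_pres D ht
    have hPt' := Gen_pres D ht'
    have hfixt : ∀ z ∈ X, t *ᵥ z = z := fun z hz =>
      Gen_fix D ht z (fun y hy => h_symm_zero D (hy z hz))
    have hfixt' : ∀ z ∈ X, t' *ᵥ z = z := fun z hz =>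
      Gen_fix D ht' z (fun y hy => h_symm_zero D (hy z hz))
    have ht'w : t' *ᵥ w' = w := by rw [← htw, mulVec_mulVec, h1, one_mulVec]
    have ht'u : t' *ᵥ u' = u := by rw [← htu, mulVec_mulVec, h1, one_mulVec]
    have hPA'' : Pres (q := q) (t * A' * t') := (hPt.mul hPA').mul hPt'
    have hAA'' : t * A' * t' * (t * A' * t') = 1 := by
      calc t * A' * t' * (t * A' * t') = t * (A' * ((t' * t) * A')) * t' := by
            simp only [Matrix.mul_assoc]
        _ = 1 := by rw [h1, Matrix.one_mul, hAA', Matrix.mul_one, h2']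
    have hfixsup : ∀ (C : Matrix (Fin n) (Fin n) K), (∀ z ∈ X, C *ᵥ z = z) →
        C *ᵥ w' = w' → C *ᵥ u' = u' →
        ∀ z ∈ X ⊔ Submodule.span K ({w', u'} : Set (Fin n → K)), C *ᵥ z = z := by
      intro C hC hCu hCv z hz
      obtain ⟨x1, hx1, x2, hx2, rfl⟩ := Submodule.mem_sup.mp hz
      obtain ⟨a, b, rfl⟩ := Submodule.mem_span_pair.mp hx2
      rw [mulVec_add, mulVec_add, mulVec_smul, mulVec_smul, hC x1 hx1, hCu, hCv]
    have hfix'' : ∀ z ∈ X ⊔ Submodule.span K ({w', u'} : Set (Fin n → K)),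
        (t * A' * t') *ᵥ z = z := by
      apply hfixsup
      · intro z hz
        rw [← mulVec_mulVec, ← mulVec_mulVec, hfixt' z hz, hfA' z hz, hfixt z hz]
      · rw [← mulVec_mulVec, ← mulVec_mulVec, ht'w, hA'w, htw]
      · rw [← mulVec_mulVec, ← mulVec_mulVec, ht'u, hA'u, htu]
    have hfixB'' : ∀ z ∈ X ⊔ Submodule.span K ({w', u'} : Set (Fin n → K)), B' *ᵥ z = z :=
      hfixsup B' hfB' hB'w hB'u
    have hrank'' : (t * A' * t' - 1).rank = (B' - 1).rank := by
      rw [rank_conj t t' A' h2', hrank']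
    have hY' := nonDeg_cut D hY hw' hu' hww' huu' hwu' huw'
    have hlt := finrank_cut_lt D X hw' hwu'
    obtain ⟨M1, hM1, hM1eq⟩ := ih _ (by rw [← hd]; exact hlt) _ hY' rfl (t * A' * t') B' hPA'' hPB'
      hAA'' hBB' hfix'' hfixB'' hrank''
    have hM1w : M1 *ᵥ w' = w' := Gen_fix D hM1 w' (fun y hy =>
      h_symm_zero D (hy w' (Submodule.mem_sup_right (Submodule.subset_span (by simp)))))
    refine ⟨M1 * t, Submonoid.mul_mem _ (Gen_mono D (perpL_anti le_sup_left) hM1) ht, ?_⟩
    have hPM1 := Gen_pres D hM1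
    have hA''t : t * A' = t * A' * t' * t := by
      rw [Matrix.mul_assoc (t * A'), h1, Matrix.mul_one]
    calc M1 * t * A = M1 * (t * T w 1) * A' := by rw [hAeq]; simp only [Matrix.mul_assoc]
      _ = M1 * (T w' 1 * t) * A' := by rw [T_conj t hPt, htw]
      _ = (M1 * T w' 1) * (t * A') := by simp only [Matrix.mul_assoc]
      _ = (T w' 1 * M1) * (t * A' * t' * t) := by rw [T_conj M1 hPM1, hM1w, ← hA''t]
      _ = T w' 1 * (M1 * (t * A' * t')) * t := by simp only [Matrix.mul_assoc]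
      _ = T w' 1 * (B' * M1) * t := by rw [hM1eq]
      _ = B * (M1 * t) := by rw [hBeq]; simp only [Matrix.mul_assoc]

end Cfsg.Agent.Helper2.SUGen
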