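import Mathlib
import Cfsg.Agent.Helper2.SU.Simple
import Cfsg.Agent.Helper2.RootSub
import Cfsg.Agent.Helper2.SL2Emb
import Cfsg.Agent.Helper2.UnitaryCount

/-! Unitary transvection groups form a degenerate class of abstract root subgroups of the group
they generate. -/

set_option autoImplicit false

namespace Cfsg.Agent.Helper2.SUGen

open Matrix Module Cfsg.Agent.S2644 Cfsg.Agent.Helper28 Cfsg.Agent.Helper25
  Cfsg.Agent.Helper2.RootSub Cfsg.Agent.Helper2.SL2Emb

variable {K : Type*} [Field K] {q n : ℕ}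

local notation "h" => Cfsg.hermForm n K q
local notation "T" => Cfsg.unitaryTransvection n q
local notation "tm" => Cfsg.Agent.S2644.toM K n q

/-- the root subgroup in the form used by the statement -/
def XU (n : ℕ) (K : Type*) [Field K] (q : ℕ) (p : Fin n → K) : Subgroup ↥(Cfsg.SU n K q) :=
  Subgroup.closure {g : ↥(Cfsg.SU n K q) |
    (∀ v : Fin n → K, ∃ c : K,
      ((g : Matrix.SpecialLinearGroup (Fin n) K) : Matrix (Fin n) (Fin n) K) *ᵥ v = v + c • p) ∧
    ∀ v : Fin n → K, Cfsg.hermForm n K q v p = 0 →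
      ((g : Matrix.SpecialLinearGroup (Fin n) K) : Matrix (Fin n) (Fin n) K) *ᵥ v = v}

theorem map_sl2Upper {L : Type*} [Field L] (ι : L →+* K) (c : L) :
    Matrix.SpecialLinearGroup.map ι (sl2Upper c) = sl2Upper (ι c) := by
  apply Subtype.ext
  ext i j
  rw [Matrix.SpecialLinearGroup.map_apply_coe, RingHom.mapMatrix_apply, Matrix.map_apply]
  fin_cases i <;> fin_cases j <;> simp [sl2Upper]

theorem map_sl2Lower {L : Type*} [Field L] (ι : L →+* K) (c : L) :
    Matrix.SpecialLinearGroup.map ι (sl2Lower c) = sl2Lower (ι c) := by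
  apply Subtype.ext
  ext i j
  rw [Matrix.SpecialLinearGroup.map_apply_coe, RingHom.mapMatrix_apply, Matrix.map_apply]
  fin_cases i <;> fin_cases j <;> simp [sl2Lower]

variable (D : Frob K q)

include D

theorem gen_iff {p : Fin n → K} (hp : p ≠ 0) (hpp : h p p = 0) (g : ↥(Cfsg.SU n K q)) :
    ((∀ v : Fin n → K, ∃ c : K, tm g *ᵥ v = v + c • p) ∧
      ∀ v : Fin n → K, h v p = 0 → tm g *ᵥ v = v) ↔ g ∈ Te D p hpp := by
  constructor
  · rintro ⟨h1, h2⟩
    obtain ⟨p', hp'⟩ : ∃ p', h p p' ≠ 0 := by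
      by_contra hcon
      push Not at hcon
      exact hp (h_nondeg D hcon)
    have hα : h p' p ≠ 0 := h_symm_ne D hp'
    obtain ⟨c₀, hc₀⟩ := h1 p'
    have heq : tm g = T p (c₀ / h p' p) := by
      apply mat_ext
      intro x
      have hx : h (x - (h x p / h p' p) • p') p = 0 := by
        rw [h_sub_left, h_smul_left, div_mul_cancel₀ _ hα, sub_self]
      have h3 := h2 _ hx
      rw [Matrix.mulVec_sub, Matrix.mulVec_smul, hc₀] at h3
      rw [T_mulVec]
      have h4 : tm g *ᵥ x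
          = x - (h x p / h p' p) • p' + (h x p / h p' p) • (p' + c₀ • p) := by
        rw [← h3]; abel
      rw [h4, smul_add, smul_smul]
      have h5 : c₀ / h p' p * h x p = h x p / h p' p * c₀ := by field_simp
      rw [h5]; abel
    have hP : Pres (q := q) (T p (c₀ / h p' p)) := by rw [← heq]; exact toM_pres g
    have hsk := Cfsg.Agent.S0781.skew_of_Pres D.σ D.pow D.invol p _ hp hpp hP
    exact ⟨_, by rw [D.pow]; exact hsk, heq⟩
  · rintro ⟨c, hc, heq⟩
    constructor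
    · intro v; exact ⟨c * h v p, by rw [heq, T_mulVec]⟩
    · intro v hv; rw [heq, T_mulVec, hv, mul_zero, zero_smul, add_zero]

theorem XU_eq {p : Fin n → K} (hp : p ≠ 0) (hpp : h p p = 0) : XU n K q p = Te D p hpp := by
  have hset : {g : ↥(Cfsg.SU n K q) |
    (∀ v : Fin n → K, ∃ c : K,
      ((g : Matrix.SpecialLinearGroup (Fin n) K) : Matrix (Fin n) (Fin n) K) *ᵥ v = v + c • p) ∧
    ∀ v : Fin n → K, Cfsg.hermForm n K q v p = 0 →
      ((g : Matrix.SpecialLinearGroup (Fin n) K) : Matrix (Fin n) (Fin n) K) *ᵥ v = v}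
      = (Te D p hpp : Set ↥(Cfsg.SU n K q)) := by
    ext g
    exact gen_iff D hp hpp g
  unfold XU
  rw [hset, Subgroup.closure_eq]

theorem exists_ne_of_ne_zero {p : Fin n → K} (hp : p ≠ 0) : ∃ p', h p p' ≠ 0 := by
  by_contra hcon
  push Not at hcon
  exact hp (h_nondeg D hcon)

theorem Te_ne_bot {p : Fin n → K} (hp : p ≠ 0) (hpp : h p p = 0) : Te D p hpp ≠ ⊥ := by
  obtain ⟨s, hs0, hs⟩ := exists_skew D
  have hsq : s ^ q = -s := by rw [← D.pow]; exact hs
  intro hbot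
  have hmem : mkSU (T p s) (Cfsg.Agent.S0781.det_T p s hpp)
      (Cfsg.Agent.S0781.Pres_T D.σ D.pow D.invol p s hpp hsq) ∈ Te D p hpp := ⟨s, hs, rfl⟩
  rw [hbot, Subgroup.mem_bot] at hmem
  have h1 : T p s = 1 := by
    have h0 := congrArg (Cfsg.Agent.S2644.toM K n q) hmem
    rwa [toM_mkSU, map_one] at h0
  obtain ⟨p', hp'⟩ := exists_ne_of_ne_zero D hp
  have h2 := T_mulVec (q := q) p s p'
  rw [h1, Matrix.one_mulVec] at h2
  have h3 : (s * h p' p) • p = 0 := by
    have h4 : p' + 0 = p' + (s * h p' p) • p := by rw [add_zero]; exact h2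
    exact (add_left_cancel h4).symm
  rcases smul_eq_zero.mp h3 with h4 | h4
  · exact mul_ne_zero hs0 (h_symm_ne D hp') h4
  · exact hp h4

theorem conjBy_Te {p : Fin n → K} (hpp : h p p = 0) (g : ↥(Cfsg.SU n K q))
    (hgp : h (tm g *ᵥ p) (tm g *ᵥ p) = 0) :
    Cfsg.conjBy (Te D p hpp) g = Te D (tm g *ᵥ p) hgp := by
  ext x
  rw [mem_conjBy_iff]
  constructor
  · rintro ⟨c, hc, heq⟩
    refine ⟨c, hc, ?_⟩
    have h1 : tm x = tm g * T p c * tm g⁻¹ := by
      rw [← heq, ← map_mul, ← map_mul]; congr 1; group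
    rw [h1, T_conj _ (toM_pres g), Matrix.mul_assoc, ← map_mul, mul_inv_cancel, map_one,
      Matrix.mul_one]
  · rintro ⟨c, hc, heq⟩
    refine ⟨c, hc, ?_⟩
    rw [map_mul, map_mul, heq]
    have h1 := T_conj (tm g) (toM_pres g) p c
    rw [Matrix.mul_assoc, ← h1, ← Matrix.mul_assoc, ← map_mul, inv_mul_cancel, map_one,
      Matrix.one_mul]

theorem Te_commute {p p' : Fin n → K} (hpp : h p p = 0) (hpp' : h p' p' = 0) (h0 : h p p' = 0) :
    ∀ a ∈ Te D p hpp, ∀ b ∈ Te D p' hpp', a * b = b * a := by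
  rintro a ⟨c, hc, ha⟩ b ⟨d, hd, hb⟩
  apply toM_injective
  rw [map_mul, map_mul, ha, hb]
  have h0' : h p' p = 0 := h_symm_zero D h0
  apply mat_ext
  intro x
  rw [← Matrix.mulVec_mulVec, ← Matrix.mulVec_mulVec, T_mulVec, T_mulVec, T_mulVec, T_mulVec,
    h_add_left, h_add_left, h_smul_left, h_smul_left, h0, h0']
  simp only [mul_zero, add_zero]
  abel

theorem Te_smul {p : Fin n → K} (hpp : h p p = 0) {a : K} (ha : a ≠ 0)
    (hpp' : h (a • p) (a • p) = 0) : Te D (a • p) hpp' = Te D p hpp := by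
  have hN : D.σ (a ^ (q + 1)) = a ^ (q + 1) := by
    rw [pow_succ, ← D.pow, map_mul, D.invol, mul_comm]
  have hN0 : a ^ (q + 1) ≠ 0 := pow_ne_zero _ ha
  ext g
  constructor
  · rintro ⟨c, hc, heq⟩
    refine ⟨c * a ^ (q + 1), by rw [map_mul, hc, hN]; ring, ?_⟩
    rw [heq, T_smul]
  · rintro ⟨c, hc, heq⟩
    refine ⟨c / a ^ (q + 1), by rw [map_div₀, hc, hN]; ring, ?_⟩
    rw [heq, T_smul, div_mul_cancel₀ _ hN0]

/-- a hyperbolic pair with skew inner product spans a copy of `SL₂` of the fixed field -/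
theorem sl2Pair_of_skew {L : Type*} [Field L] (ι : L →+* K) (hι : ∀ k, D.σ (ι k) = ι k)
    (hsurj : ∀ x, D.σ x = x → ∃ k, ι k = x) {p p' : Fin n → K} (hpp : h p p = 0)
    (hpp' : h p' p' = 0) {β : K} (hβ : h p' p = β) (hβ0 : β ≠ 0) (hβs : D.σ β = -β) :
    SL2Pair L (Te D p hpp) (Te D p' hpp') := by
  have hβ' : h p p' = -β := by rw [← h_conj D, hβ, hβs]
  obtain ⟨E, hE0, hE1⟩ : ∃ E : Matrix (Fin n) (Fin 2) K,
      (∀ i, E i 0 = p i) ∧ (∀ i, E i 1 = p' i) :=
    ⟨Matrix.of fun i j => ![p i, p' i] j, fun _ => rfl, fun _ => rfl⟩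
  obtain ⟨R, hR0, hR1⟩ : ∃ R : Matrix (Fin 2) (Fin n) K,
      (∀ i, R 0 i = -(β⁻¹) * p' i ^ q) ∧ (∀ i, R 1 i = β⁻¹ * p i ^ q) :=
    ⟨Matrix.of fun j i => ![-(β⁻¹) * p' i ^ q, β⁻¹ * p i ^ q] j, fun _ => rfl, fun _ => rfl⟩
  have hsum : ∀ x y : Fin n → K, ∑ i, y i ^ q * x i = h x y := by
    intro x y
    unfold Cfsg.hermForm
    exact Finset.sum_congr rfl (fun i _ => mul_comm _ _)
  have hRE : R * E = 1 := by
    ext a b
    fin_cases a <;> fin_cases b
    · show (R * E) 0 0 = 1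
      rw [Matrix.mul_apply]
      simp_rw [hR0, hE0, mul_assoc]
      rw [← Finset.mul_sum, hsum, hβ']
      field_simp
    · show (R * E) 0 1 = 0
      rw [Matrix.mul_apply]
      simp_rw [hR0, hE1, mul_assoc]
      rw [← Finset.mul_sum, hsum, hpp', mul_zero]
    · show (R * E) 1 0 = 0
      rw [Matrix.mul_apply]
      simp_rw [hR1, hE0, mul_assoc]
      rw [← Finset.mul_sum, hsum, hpp, mul_zero]
    · show (R * E) 1 1 = 1
      rw [Matrix.mul_apply]
      simp_rw [hR1, hE1, mul_assoc]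
      rw [← Finset.mul_sum, hsum, hβ, inv_mul_cancel₀ hβ0]
  have hu : ∀ c : K, emb E R ((sl2Upper c : Matrix.SpecialLinearGroup (Fin 2) K) :
      Matrix (Fin 2) (Fin 2) K) = T p (c * β⁻¹) := by
    intro c
    rw [emb_upper]
    unfold Cfsg.unitaryTransvection
    congr 1
    ext i j
    simp only [Matrix.smul_apply, vecMulVec_apply, smul_eq_mul, hE0, hR1]
    ring
  have hl : ∀ c : K, emb E R ((sl2Lower c : Matrix.SpecialLinearGroup (Fin 2) K) :
      Matrix (Fin 2) (Fin 2) K) = T p' (-(c * β⁻¹)) := by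
    intro c
    rw [emb_lower]
    unfold Cfsg.unitaryTransvection
    congr 1
    ext i j
    simp only [Matrix.smul_apply, vecMulVec_apply, smul_eq_mul, hE1, hR0]
    ring
  have hskew : ∀ c : L, (ι c * β⁻¹) ^ q = -(ι c * β⁻¹) := by
    intro c
    rw [← D.pow, map_mul, hι, map_inv₀, hβs, inv_neg, mul_neg]
  have hskew' : ∀ c : L, (-(ι c * β⁻¹)) ^ q = -(-(ι c * β⁻¹)) := by
    intro c
    rw [← D.pow, map_neg, D.pow, hskew c]
  have hpres : ∀ g : Matrix.SpecialLinearGroup (Fin 2) L,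
      Pres (q := q) (emb E R ((Matrix.SpecialLinearGroup.map ι g :
        Matrix.SpecialLinearGroup (Fin 2) K) : Matrix (Fin 2) (Fin 2) K)) := by
    intro g
    refine sl2_induction (fun g => Pres (q := q) (emb E R ((Matrix.SpecialLinearGroup.map ι g :
        Matrix.SpecialLinearGroup (Fin 2) K) : Matrix (Fin 2) (Fin 2) K))) ?_ ?_ ?_ g
    · intro c
      show Pres (q := q) (emb E R _)
      rw [map_sl2Upper, hu]
      exact Cfsg.Agent.S0781.Pres_T D.σ D.pow D.invol p _ hpp (hskew c)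
    · intro c
      show Pres (q := q) (emb E R _)
      rw [map_sl2Lower, hl]
      exact Cfsg.Agent.S0781.Pres_T D.σ D.pow D.invol p' _ hpp' (hskew' c)
    · intro a b ha hb
      show Pres (q := q) (emb E R _)
      rw [map_mul, Matrix.SpecialLinearGroup.coe_mul, emb_mul hRE]
      exact ha.mul hb
  obtain ⟨ρ, hρ⟩ : ∃ ρ : Matrix.SpecialLinearGroup (Fin 2) L →* ↥(Cfsg.SU n K q),
      ∀ g, tm (ρ g) = emb E R ((Matrix.SpecialLinearGroup.map ι g :
        Matrix.SpecialLinearGroup (Fin 2) K) : Matrix (Fin 2) (Fin 2) K) := by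
    refine ⟨MonoidHom.mk' (fun g => mkSU (emb E R ((Matrix.SpecialLinearGroup.map ι g :
        Matrix.SpecialLinearGroup (Fin 2) K) : Matrix (Fin 2) (Fin 2) K))
        (by rw [det_emb hRE]; exact (Matrix.SpecialLinearGroup.map ι g).2) (hpres g)) ?_,
      fun g => rfl⟩
    intro a b
    apply toM_injective
    show emb E R ((Matrix.SpecialLinearGroup.map ι (a * b) :
        Matrix.SpecialLinearGroup (Fin 2) K) : Matrix (Fin 2) (Fin 2) K)
      = emb E R ((Matrix.SpecialLinearGroup.map ι a :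
        Matrix.SpecialLinearGroup (Fin 2) K) : Matrix (Fin 2) (Fin 2) K)
      * emb E R ((Matrix.SpecialLinearGroup.map ι b :
        Matrix.SpecialLinearGroup (Fin 2) K) : Matrix (Fin 2) (Fin 2) K)
    rw [map_mul, Matrix.SpecialLinearGroup.coe_mul, emb_mul hRE]
  have hinj : Function.Injective ρ := by
    intro a b hab
    have h1 : emb E R ((Matrix.SpecialLinearGroup.map ι a :
        Matrix.SpecialLinearGroup (Fin 2) K) : Matrix (Fin 2) (Fin 2) K)
        = emb E R ((Matrix.SpecialLinearGroup.map ι b :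
        Matrix.SpecialLinearGroup (Fin 2) K) : Matrix (Fin 2) (Fin 2) K) := by
      rw [← hρ a, ← hρ b, hab]
    have h2 := emb_injective hRE h1
    apply Subtype.ext
    ext i j
    have h3 := congrFun (congrFun h2 i) j
    rw [Matrix.SpecialLinearGroup.map_apply_coe, Matrix.SpecialLinearGroup.map_apply_coe,
      RingHom.mapMatrix_apply, RingHom.mapMatrix_apply, Matrix.map_apply, Matrix.map_apply] at h3
    exact ι.injective h3
  refine ⟨ρ, hinj, ?_, ?_⟩
  · ext g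
    rw [Subgroup.mem_map]
    constructor
    · rintro ⟨x, hx, rfl⟩
      rw [eq_sl2Upper_of_mem hx]
      refine ⟨ι (x 0 1) * β⁻¹, ?_, ?_⟩
      · rw [D.pow]; exact hskew _
      · rw [hρ, map_sl2Upper, hu]
    · rintro ⟨d, hd, heq⟩
      obtain ⟨k, hk⟩ := hsurj (d * β) (by rw [map_mul, hd, hβs]; ring)
      refine ⟨sl2Upper k, sl2Upper_mem k, ?_⟩
      apply toM_injective
      rw [hρ, map_sl2Upper, hu, hk, heq, mul_assoc, mul_inv_cancel₀ hβ0, mul_one]
  · ext g
    rw [Subgroup.mem_map]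
    constructor
    · rintro ⟨x, hx, rfl⟩
      rw [eq_sl2Lower_of_mem hx]
      refine ⟨-(ι (x 1 0) * β⁻¹), ?_, ?_⟩
      · rw [D.pow]; exact hskew' _
      · rw [hρ, map_sl2Lower, hl]
    · rintro ⟨d, hd, heq⟩
      obtain ⟨k, hk⟩ := hsurj (-(d * β)) (by rw [map_neg, map_mul, hd, hβs]; ring)
      refine ⟨sl2Lower k, sl2Lower_mem k, ?_⟩
      apply toM_injective
      rw [hρ, map_sl2Lower, hl, hk, heq]
      congr 1
      field_simp

theorem sl2Pair_of_ne {L : Type*} [Field L] (ι : L →+* K) (hι : ∀ k, D.σ (ι k) = ι k)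
    (hsurj : ∀ x, D.σ x = x → ∃ k, ι k = x) {p p' : Fin n → K} (hpp : h p p = 0)
    (hpp' : h p' p' = 0) (hne : h p' p ≠ 0) :
    SL2Pair L (Te D p hpp) (Te D p' hpp') := by
  obtain ⟨s, hs0, hs⟩ := exists_skew D
  have ha0 : D.σ (s / h p' p) ≠ 0 := σ_ne_zero D (div_ne_zero hs0 hne)
  have hpp1 : h (D.σ (s / h p' p) • p) (D.σ (s / h p' p) • p) = 0 := by
    rw [h_smul_left, h_smul_right D, hpp, mul_zero, mul_zero]
  have hβ : h p' (D.σ (s / h p' p) • p) = s := by
    rw [h_smul_right D, D.invol, div_mul_cancel₀ _ hne]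
  have key := sl2Pair_of_skew D ι hι hsurj hpp1 hpp' hβ hs0 hs
  rwa [Te_smul D hpp ha0 hpp1] at key

theorem exists_subfield [Fintype K] (hK : Fintype.card K = q ^ 2) :
    ∃ (L : Type) (_ : Field L) (_ : Fintype L) (ι : L →+* K), Fintype.card L = q ∧
      (∀ k, D.σ (ι k) = ι k) ∧ ∀ x, D.σ x = x → ∃ k, ι k = x := by
  classical
  obtain ⟨p, j, hp, hchar, hq⟩ := Cfsg.Agent.Helper2.Herm.exists_char_pow hK
  have hfact := Fact.mk hp
  have hj : j ≠ 0 := by
    rintro rfl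
    have h2 := Cfsg.Agent.Helper2.Herm.two_le_q hK
    rw [hq] at h2; simp at h2
  let F₀ : Subfield K := D.σ.eqLocusField (RingHom.id K)
  have hfin0 : Fintype F₀ := Fintype.ofFinite _
  have hcard : Fintype.card F₀ = q := by
    rw [← Nat.card_eq_fintype_card]
    have h1 : Nat.card (Cfsg.Agent.Helper2.Herm.K hK) = q := by
      rw [Nat.card_eq_fintype_card]; convert Cfsg.Agent.Helper2.Herm.card_K hK
    rw [← h1]
    exact Nat.card_congr (Equiv.subtypeEquivRight (fun x => by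
      show D.σ x = x ↔ x ^ q = x
      rw [D.pow]))
  have hfinL : Fintype (GaloisField p j) := Fintype.ofFinite _
  have hL : Fintype.card (GaloisField p j) = q := by
    rw [← Nat.card_eq_fintype_card, GaloisField.card p j hj, hq]
  let e : GaloisField p j ≃+* F₀ := FiniteField.ringEquivOfCardEq (by rw [hL, hcard])
  refine ⟨GaloisField p j, inferInstance, hfinL, F₀.subtype.comp e.toRingHom, hL,
    fun k => (e k).2, fun x hx => ⟨e.symm ⟨x, hx⟩, ?_⟩⟩
  show ((e (e.symm ⟨x, hx⟩) : F₀) : K) = x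
  rw [RingEquiv.apply_symm_apply]

/-- the family of the statement -/
def SSU (n : ℕ) (K : Type*) [Field K] (q : ℕ) : Set (Subgroup ↥(Cfsg.SU n K q)) :=
  {A | ∃ p : Fin n → K, p ≠ 0 ∧ Cfsg.hermForm n K q p p = 0 ∧ A = XU n K q p}

omit D in
theorem mulVec_ne_zero' (g : ↥(Cfsg.SU n K q)) {p : Fin n → K} (hp : p ≠ 0) : tm g *ᵥ p ≠ 0 := by
  intro h0
  apply hp
  have := tm_inv_mulVec g p
  rw [h0, Matrix.mulVec_zero] at this
  exact this.symm

theorem hyp [Finite K] (hn : 2 ≤ n) {L : Type*} [Field L] (ι : L →+* K)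
    (hι : ∀ k, D.σ (ι k) = ι k) (hsurj : ∀ x, D.σ x = x → ∃ k, ι k = x) :
    Hyp L (SSU n K q) := by
  refine ⟨?_, ?_, ?_, ?_, ?_, ?_⟩
  · rintro _ ⟨p, hp, hpp, rfl⟩
    rw [XU_eq D hp hpp]
    exact Te_comm D p hpp
  · rintro _ ⟨p, hp, hpp, rfl⟩
    rw [XU_eq D hp hpp]
    exact Te_ne_bot D hp hpp
  · rintro _ ⟨p, hp, hpp, rfl⟩ g _
    have hgp : h (tm g *ᵥ p) (tm g *ᵥ p) = 0 := by rw [toM_pres g, hpp]
    refine ⟨tm g *ᵥ p, mulVec_ne_zero' g hp, hgp, ?_⟩
    rw [XU_eq D hp hpp, conjBy_Te D hpp g hgp, ← XU_eq D (mulVec_ne_zero' g hp) hgp]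
  · rintro _ ⟨p, hp, hpp, rfl⟩ _ ⟨p', hp', hpp', rfl⟩
    rw [XU_eq D hp hpp, XU_eq D hp' hpp']
    by_cases h0 : h p p' = 0
    · exact Or.inl (Te_commute D hpp hpp' h0)
    · exact Or.inr (sl2Pair_of_ne D ι hι hsurj hpp hpp' (h_symm_ne D h0))
  · have hfr : 2 ≤ finrank K (⊤ : Submodule K (Fin n → K)) := by
      rw [finrank_top, Module.finrank_fin_fun]; exact hn
    obtain ⟨u, -, v, -, hu0, huu, -, -, -⟩ := exists_hyp_pair D (nonDeg_top D) hfr
    exact ⟨_, u, hu0, huu, rfl⟩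
  · rintro _ ⟨p, hp, hpp, rfl⟩ _ ⟨y, hy, hyy, rfl⟩
    obtain ⟨z, -, hzz, hzp, hzy⟩ := exists_iso_both D (nonDeg_top D)
      (Submodule.mem_top (x := p)) (Submodule.mem_top (x := y)) hpp hyy hp hy
    have hz : z ≠ 0 := by
      rintro rfl
      exact hzp (h_zero_left p)
    refine ⟨_, ⟨z, hz, hzz, rfl⟩, ?_, ?_⟩
    · rw [XU_eq D hp hpp, XU_eq D hz hzz]
      exact sl2Pair_of_ne D ι hι hsurj hpp hzz hzp
    · rw [XU_eq D hz hzz, XU_eq D hy hyy]
      exact sl2Pair_of_ne D ι hι hsurj hzz hyy (h_symm_ne D hzy)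

end Cfsg.Agent.Helper2.SUGen
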